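/-
Local quotients of type M(22): transport of the defining data, central cores, connectedness.

Main results (namespace `Cfsg.Agent.FischerM23`):
* `Data22At`, `type22_of_data`, `data_image` : the data of type M(22) along an injective map of the class;
* `centralCores_of_local_simple` : a local group simple modulo its centre forces central cores;
* `connected_of_data` : with trivial centre the data force a connected commuting graph.
-/
import Cfsg.Agent.Lib.FischerM22.Total

set_option autoImplicit false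

namespace Cfsg.Agent.FischerM23

open Cfsg.Agent.Unitary Cfsg.Agent.U62Cover Cfsg.Agent.ThreeTrans Cfsg.Agent.ThreeTransSU Relation

variable {G H : Type*} [Group G] [Group H] {D : Set G}

/-! ### maps injective on the class -/

theorem commute_of_map_commute (hconj : ∀ g : G, ∀ d ∈ D, g * d * g⁻¹ ∈ D) (f : G →* H)
    (hinj : Set.InjOn f D) {x y : G} (hy : y ∈ D) (h : Commute (f x) (f y)) : Commute x y := by
  have e : f (x * y * x⁻¹) = f y := by rw [map_mul, map_mul, map_inv, h.eq, mul_inv_cancel_right]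
  have := hinj (hconj x y hy) hy e
  show x * y = y * x
  rwa [mul_inv_eq_iff_eq_mul] at this

theorem adj_image (hconj : ∀ g : G, ∀ d ∈ D, g * d * g⁻¹ ∈ D) (f : G →* H) (hinj : Set.InjOn f D)
    {x : G} (hx : x ∈ D) : adj (f '' D) (f x) = f '' adj D x := by
  ext q
  constructor
  · rintro ⟨⟨y, hy, rfl⟩, hne, hc⟩
    exact ⟨y, ⟨hy, fun h => hne (by rw [h]), commute_of_map_commute hconj f hinj hy hc⟩, rfl⟩
  · rintro ⟨y, ⟨hy, hne, hc⟩, rfl⟩
    exact ⟨⟨y, hy, rfl⟩, fun h => hne (hinj hy hx h), hc.map f⟩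

theorem common_image (hconj : ∀ g : G, ∀ d ∈ D, g * d * g⁻¹ ∈ D) (f : G →* H) (hinj : Set.InjOn f D)
    {x y : G} (hx : x ∈ D) (hy : y ∈ D) : common (f '' D) (f x) (f y) = f '' common D x y := by
  rw [common, adj_image hconj f hinj hx, adj_image hconj f hinj hy, common]
  exact (hinj.image_inter (fun z hz => hz.1) (fun z hz => hz.1)).symm

/-- A subgroup generated by members, modulo its centre, only depends on their images. -/
theorem closure_quot_equiv (hconj : ∀ g : G, ∀ d ∈ D, g * d * g⁻¹ ∈ D) (f : G →* H)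
    (hinj : Set.InjOn f D) {S : Set G} (hS : S ⊆ D) {T : Set H} (hT : T = f '' S) :
    Nonempty (↥(Subgroup.closure S) ⧸ Subgroup.center ↥(Subgroup.closure S) ≃*
      ↥(Subgroup.closure T) ⧸ Subgroup.center ↥(Subgroup.closure T)) := by
  subst hT
  set A := Subgroup.closure S
  set B := Subgroup.closure (f '' S)
  have hAB : ∀ a : A, f a ∈ B := fun a => by
    have h : (a : G) ∈ B.comap f := (Subgroup.closure_le _).2
      (fun s hs => show f s ∈ B from Subgroup.subset_closure ⟨s, hs, rfl⟩) a.2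
    exact h
  let φ : A →* B := (f.comp A.subtype).codRestrict B hAB
  have hφ : Function.Surjective φ := by
    rintro ⟨b, hb⟩
    have hb' : b ∈ A.map f := by
      rw [MonoidHom.map_closure]
      exact hb
    obtain ⟨a, ha, rfl⟩ := hb'
    exact ⟨⟨a, ha⟩, rfl⟩
  let ψ := (toQ B).comp φ
  have hker : ψ.ker = Subgroup.center A := by
    refine le_antisymm (fun x hx => ?_) (fun x hx => ?_)
    · have hc : φ x ∈ Subgroup.center B := (QuotientGroup.eq_one_iff _).1 hx
      refine Subgroup.mem_center_iff.2 fun g => Subtype.ext ?_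
      show (g : G) * x = x * g
      obtain ⟨g, hg⟩ := g
      show Commute g (x : G)
      induction hg using Subgroup.closure_induction with
      | mem s hs =>
        refine (commute_of_map_commute hconj f hinj (hS hs) ?_).symm
        exact congrArg Subtype.val
          (Subgroup.mem_center_iff.1 hc ⟨f s, Subgroup.subset_closure ⟨s, hs, rfl⟩⟩).symm
      | one => exact Commute.one_left _
      | mul u v _ _ hu hv => exact hu.mul_left hv
      | inv u _ hu => exact hu.inv_left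
    · refine (QuotientGroup.eq_one_iff _).2 (Subgroup.mem_center_iff.2 fun b => ?_)
      obtain ⟨a, rfl⟩ := hφ b
      rw [← map_mul, ← map_mul, Subgroup.mem_center_iff.1 hx a]
  exact ⟨(QuotientGroup.quotientMulEquivOfEq hker.symm).trans
    (QuotientGroup.quotientKerEquivOfSurjective ψ ((QuotientGroup.mk'_surjective _).comp hφ))⟩

/-! ### the data of type M(22) -/

/-- The data of type M(22) at two members, without the condition on the centre. -/
def Data22At (D : Set G) (d c : G) : Prop :=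
  d ∈ D ∧ c ∈ D ∧ ¬ Commute d c ∧
    (∃ (F : Type) (_ : Field F) (_ : Fintype F), Fintype.card F = 4 ∧
      Nonempty (↥(Loc D d) ⧸ Subgroup.center ↥(Loc D d) ≃* Cfsg.PSU 6 F 2)) ∧
    ∃ c₃ : ZMod 3, c₃ ≠ 0 ∧ Cfsg.IsProjReflectionGroupModThree
      (↥(Subgroup.closure (common D d c)) ⧸ Subgroup.center ↥(Subgroup.closure (common D d c))) 6 1 c₃

theorem type22_of_data (hZ : Subgroup.center G = ⊥) {d c : G} (h : Data22At D d c) :
    Cfsg.IsOfTypeM22 G D := by
  obtain ⟨hd, hc, hdc, hP, hR⟩ := h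
  exact ⟨hZ, d, hd, c, hc, hdc, hP, hR⟩

theorem data_of_type22 (h : Cfsg.IsOfTypeM22 G D) : ∃ d c, Data22At D d c := by
  obtain ⟨-, d, hd, c, hc, hdc, hP, hR⟩ := h
  exact ⟨d, c, hd, hc, hdc, hP, hR⟩

theorem proj_refl_congr {X Y : Type*} [Group X] [Group Y] (e : X ≃* Y) {n : ℕ} {μ c : ZMod 3}
    (h : Cfsg.IsProjReflectionGroupModThree X n μ c) : Cfsg.IsProjReflectionGroupModThree Y n μ c := by
  obtain ⟨Q, hQ, hμ, ⟨f⟩⟩ := h
  exact ⟨Q, hQ, hμ, ⟨e.symm.trans f⟩⟩

/-- The data do not change along a map that is injective on the class. -/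
theorem data_image (hconj : ∀ g : G, ∀ d ∈ D, g * d * g⁻¹ ∈ D) (f : G →* H) (hinj : Set.InjOn f D)
    {d c : G} (hd : d ∈ D) (hc : c ∈ D) : Data22At (f '' D) (f d) (f c) ↔ Data22At D d c := by
  obtain ⟨e1⟩ := closure_quot_equiv hconj f hinj (S := adj D d) (fun z hz => hz.1)
    (adj_image hconj f hinj hd)
  obtain ⟨e2⟩ := closure_quot_equiv hconj f hinj (S := common D d c) (fun z hz => hz.1.1)
    (common_image hconj f hinj hd hc)
  constructor
  · rintro ⟨-, -, hdc, ⟨F, i1, i2, hF, ⟨e⟩⟩, c₃, hc3, hR⟩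
    exact ⟨hd, hc, fun h => hdc (h.map f), ⟨F, i1, i2, hF, ⟨e1.trans e⟩⟩, c₃, hc3,
      proj_refl_congr e2.symm hR⟩
  · rintro ⟨-, -, hdc, ⟨F, i1, i2, hF, ⟨e⟩⟩, c₃, hc3, hR⟩
    exact ⟨⟨d, hd, rfl⟩, ⟨c, hc, rfl⟩, fun h => hdc (commute_of_map_commute hconj f hinj hc h),
      ⟨F, i1, i2, hF, ⟨e1.symm.trans e⟩⟩, c₃, hc3, proj_refl_congr e2 hR⟩

theorem simple_of_data {d c : G} (h : Data22At D d c) :
    IsSimpleGroup (↥(Loc D d) ⧸ Subgroup.center ↥(Loc D d)) := by
  obtain ⟨-, -, -, ⟨F, _, _, hF, ⟨e⟩⟩, -⟩ := h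
  have hs : IsSimpleGroup (Cfsg.PSU 6 F 2) :=
    S0283.result (q := 2) (by rw [hF]; norm_num) 6 (by norm_num) (by norm_num)
  exact e.isSimpleGroup

theorem common_nonempty_of_data [Finite G] {d c : G} (h : Data22At D d c) : (common D d c).Nonempty := by
  obtain ⟨-, -, -, -, c₃, hc3, hR⟩ := h
  rw [Set.nonempty_iff_ne_empty]
  intro he
  have e : Subgroup.closure (common D d c) = ⊥ := by rw [he, Subgroup.closure_empty]
  have h1 : Nat.card (↥(Subgroup.closure (common D d c)) ⧸
      Subgroup.center ↥(Subgroup.closure (common D d c))) ∣ 1 := by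
    refine (Subgroup.card_quotient_dvd_card _).trans ?_
    rw [e, Subgroup.card_bot]
  rcases FischerM22.proj_refl_dvd hc3 hR with h | h <;>
    exact absurd (Nat.le_of_dvd one_pos (h.trans h1)) (by norm_num)

/-! ### central cores -/

theorem pCore_three_le_center_of_simple_quotient [Finite G] (hD : Cfsg.IsThreeTranspositionSet D)
    (hs : IsSimpleGroup (G ⧸ Subgroup.center G)) (hn : ∃ c ∈ D, ∃ e ∈ D, ¬ Commute c e) :
    Cfsg.pCore 3 G ≤ Subgroup.center G := by
  have : Fact (Nat.Prime 3) := ⟨Nat.prime_three⟩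
  have hsurj : Function.Surjective (toQ G) := QuotientGroup.mk'_surjective _
  rcases hs.eq_bot_or_eq_top_of_normal ((Cfsg.pCore 3 G).map (toQ G))
      ((inferInstance : (Cfsg.pCore 3 G).Normal).map _ hsurj) with h | h
  · intro x hx
    have : toQ G x ∈ (Cfsg.pCore 3 G).map (toQ G) := ⟨x, hx, rfl⟩
    rw [h, Subgroup.mem_bot] at this
    exact (QuotientGroup.eq_one_iff _).1 this
  · exfalso
    have hp : IsPGroup 3 (G ⧸ Subgroup.center G) := by
      have h1 := (Cores.isPGroup_pCore 3 G).map (toQ G)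
      rw [h] at h1
      exact h1.of_equiv Subgroup.topEquiv
    obtain ⟨c, hc, e, he, hce⟩ := hn
    obtain ⟨k, hk⟩ := hp (toQ G c)
    have h1 : toQ G c = 1 := eq_one_of_pow_coprime (m := 3 ^ k) (n := 2) hk
      (by rw [← map_pow, pow_two, mul_self hD hc, map_one]) (Nat.Coprime.pow_left k (by norm_num))
    exact hce (Subgroup.mem_center_iff.1 ((QuotientGroup.eq_one_iff _).1 h1) e).symm

/-- A local group simple modulo its centre forces central cores. -/
theorem centralCores_of_local_simple [Finite G] (hD : Cfsg.IsThreeTranspositionClass D) {d : G}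
    (hd : d ∈ D) (hs : IsSimpleGroup (↥(Loc D d) ⧸ Subgroup.center ↥(Loc D d))) : CentralCores G := by
  have hg := group_of_class hD
  refine ⟨?_, ?_⟩ <;> by_contra hn
  · obtain ⟨v, hv, hvd, hvR⟩ := exists_pair_of_not_central hD hn hd
    exact hvd (vRel_trivial_of_local_simple hD hd hs hd hv (vRel_of_mem_pCore_two hg.1 hd hv hvR)).symm
  obtain ⟨v, hv, hvd, hvR⟩ := exists_pair_of_not_central hD hn hd
  have hadj := adj_eq_of_mem_pCore_three hg.1 hd hv hvR
  have hdv := not_commute_of_adj_eq hv hadj hvd.symm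
  obtain ⟨q, hq⟩ := adj_nonempty_of_simple_quotient hs
  have hqv : q ∈ adj D v := hadj ▸ hq
  obtain ⟨g, hgq⟩ := class_conj hD hq.1 hd
  have mem : ∀ {x}, x ∈ D → q ∈ adj D x → g * x * g⁻¹ ∈ adj D d := fun {x} hx h => by
    rw [← hgq]
    exact (conj_adj hg.2.1 g q _).2 (by simpa [mul_assoc] using FischerM22.adj_symm hx h)
  have hp := mem hd hq
  have hp' := mem hv hqv
  have hn' : ¬ Commute (g * d * g⁻¹) (g * v * g⁻¹) := fun h =>
    hdv (Commute.of_map (f := (MulAut.conj g).toMonoidHom) (MulAut.conj g).injective h)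
  have hx : (g * d * g⁻¹)⁻¹ * (g * v * g⁻¹) ∈ Cfsg.pCore 3 G := (conj_coset _ g d v).2 hvR
  generalize g * d * g⁻¹ = p at hp hn' hx
  generalize g * v * g⁻¹ = p' at hp' hn' hx
  let P : ↥(Loc D d) := ⟨p, Subgroup.subset_closure hp⟩
  let P' : ↥(Loc D d) := ⟨p', Subgroup.subset_closure hp'⟩
  have hset : Cfsg.IsThreeTranspositionSet (locSet D d) := by
    refine ⟨fun h hh => by rw [← Subgroup.orderOf_coe]; exact hg.1.1 _ hh.1, fun h hh k hk => ?_⟩
    rcases hg.1.2 _ hh.1 _ hk.1 with h1 | h1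
    · exact Or.inl (Subtype.ext h1)
    · exact Or.inr (Subtype.ext h1)
  have : Fact (Nat.Prime 3) := ⟨Nat.prime_three⟩
  have hmem : P⁻¹ * P' ∈ Cfsg.pCore 3 ↥(Loc D d) := by
    refine Cores.le_pCore ((inferInstance : (Cfsg.pCore 3 G).Normal).subgroupOf _)
      ((Cores.isPGroup_pCore 3 G).comap_of_injective _ (Loc D d).subtype_injective) ?_
    exact hx
  have hc := Subgroup.mem_center_iff.1 (pCore_three_le_center_of_simple_quotient hset hs
    ⟨P, hp, P', hp', fun h => hn' (commute_coe_iff.1 h)⟩ hmem) P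
  refine hn' ?_
  have h1 : P' = P⁻¹ * P' * P := by rw [← hc, mul_inv_cancel_left]
  have h2 : P * P' = P' * P :=
    calc P * P' = P * (P⁻¹ * P' * P) := by rw [← h1]
      _ = P' * P := by group
  exact congrArg Subtype.val h2

/-! ### connectedness -/

/-- Joined in the commuting graph. -/
def Reach (D : Set G) : G → G → Prop := ReflTransGen fun u v => u ∈ D ∧ v ∈ D ∧ Commute u v

theorem reach_symm {u v : G} (h : Reach D u v) : Reach D v u := by
  induction h with
  | refl => exact ReflTransGen.refl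
  | @tail w z _ h ih => exact ReflTransGen.head ⟨h.2.1, h.1, h.2.2.symm⟩ ih

theorem reach_conj (hconj : ∀ g : G, ∀ d ∈ D, g * d * g⁻¹ ∈ D) (g : G) {u v : G} (h : Reach D u v) :
    Reach D (g * u * g⁻¹) (g * v * g⁻¹) :=
  h.lift (fun z => g * z * g⁻¹) fun w z hwz =>
    ⟨hconj g w hwz.1, hconj g z hwz.2.1, hwz.2.2.map (MulAut.conj g).toMonoidHom⟩

theorem exists_adj_pair_of_model {F : Type*} [Field F] [Fintype F] {a : G} {pt : (Fin 6 → F) → G}
    (M : PointModel D a pt) : ∃ b ∈ adj D a, ∃ c ∈ adj D a, c ≠ b ∧ Commute b c := by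
  have hF := M.card
  obtain ⟨u, v, w, hu, hv, -, horth, hli⟩ := FischerM22.exists_plane hF
  refine ⟨_, M.mem u hu, _, M.mem v hv, fun h => ?_, (M.comm u v hu hv).2 (horth u (by simp) v (by simp))⟩
  obtain ⟨c, -, e⟩ := M.inj v u hv hu h
  exact one_ne_zero (hli 1 (-c) 0 (by rw [e]; simp)).1

/-- With trivial centre, the data of type M(22) force a connected commuting graph. -/
theorem connected_of_data [Finite G] (hD : Cfsg.IsThreeTranspositionClass D) (hcc : CentralCores G)
    (hZ : Subgroup.center G = ⊥) {d c : G} (h : Data22At D d c) : ConnectedComm D := by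
  have h22 := type22_of_data hZ h
  obtain ⟨hd, hc, hdc, -, -⟩ := id h
  have hg := group_of_class hD
  have hs := hg.1
  have h2 : ∃ a ∈ D, ∃ b ∈ D, a ≠ b := ⟨d, hd, c, hc, fun e => hdc (e ▸ Commute.refl d)⟩
  suffices key : ∀ x ∈ D, Reach D d x from fun u hu v hv => (reach_symm (key u hu)).trans (key v hv)
  by_contra hcon
  rw [not_forall] at hcon
  obtain ⟨v, hv⟩ := hcon
  rw [Classical.not_imp] at hv
  obtain ⟨hvD, hvB⟩ := hv
  set B := {x | x ∈ D ∧ Reach D d x} with hB
  have hBcl : ∀ x ∈ B, ∀ y ∈ D, Commute x y → y ∈ B := fun x hx y hy hxy =>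
    ⟨hy, hx.2.tail ⟨hx.1, hy, hxy⟩⟩
  have hadjB : ∀ x ∈ B, adj D x ⊆ B := fun x hx y hy => hBcl x hx y hy.1 hy.2.2
  have hdB : d ∈ B := ⟨hd, ReflTransGen.refl⟩
  have hcB : c ∈ B := by
    obtain ⟨y, hy⟩ := common_nonempty_of_data h
    exact hBcl y (hadjB d hdB hy.1) c hc hy.2.2.2.symm
  set R := Subgroup.closure B with hR
  set DR : Set R := {r | (r : G) ∈ B} with hDR
  have hRB : ∀ g ∈ R, ∀ x ∈ B, g * x * g⁻¹ ∈ B := by
    intro g hg'
    induction hg' using Subgroup.closure_induction_left with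
    | one => intro x hx; simpa using hx
    | mul_left b hb u _ hu =>
      intro x hx
      have h1 := reach_conj hg.2.1 b ((reach_symm hb.2).trans (hu x hx).2)
      rw [mul_inv_cancel_right] at h1
      refine ⟨hg.2.1 _ x hx.1, hb.2.trans ?_⟩
      rwa [show b * u * x * (b * u)⁻¹ = b * (u * x * u⁻¹) * b⁻¹ by group]
    | inv_mul_cancel b hb u _ hu =>
      intro x hx
      have h1 := reach_conj hg.2.1 b⁻¹ ((reach_symm hb.2).trans (hu x hx).2)
      rw [inv_mul_cancel, one_mul, inv_inv] at h1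
      refine ⟨hg.2.1 _ x hx.1, hb.2.trans ?_⟩
      rwa [show b⁻¹ * u * x * (b⁻¹ * u)⁻¹ = b⁻¹ * (u * x * u⁻¹) * b by group]
  have hRtrans : ∀ x, Reach D d x → ∃ g ∈ R, g * d * g⁻¹ = x := by
    intro x hx
    induction hx with
    | refl => exact ⟨1, one_mem _, by simp⟩
    | @tail y z hy hyz ih =>
      obtain ⟨g, hg', hgy⟩ := ih
      rcases eq_or_ne z y with rfl | hne
      · exact ⟨g, hg', hgy⟩
      have hyB : y ∈ B := ⟨hyz.1, hy⟩
      obtain ⟨F, _, _, pt, M⟩ := exists_pointModel hD hcc h22 hyz.1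
      obtain ⟨b, hb, e, he, hbe, hbec⟩ := exists_adj_pair_of_model M
      obtain ⟨k, hk, hkb⟩ := loc_transitive hD h2 hcc hyz.1 hb (⟨hyz.2.1, hne, hyz.2.2⟩ : z ∈ adj D y)
      -- a common neighbour of y and z
      set q := k * e * k⁻¹ with hq
      have hky : k * y * k⁻¹ = y := FischerM22.conj_eq_self_of_loc hk
      have hqy : q ∈ adj D y := by
        rw [← hky]
        exact (conj_adj hg.2.1 k y q).2 (by simpa [hq, mul_assoc] using he)
      have hqz : z ∈ adj D q := by
        refine ⟨hyz.2.1, fun e1 => hbe (mul_left_cancel (mul_right_cancel (hkb.trans e1))).symm, ?_⟩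
        rw [← hkb]
        exact hbec.symm.map (MulAut.conj k).toMonoidHom
      obtain ⟨m, hm, hmy⟩ := loc_transitive hD h2 hcc hqy.1 (FischerM22.adj_symm hyz.1 hqy) hqz
      have hmR : m ∈ R := Subgroup.closure_mono (hadjB q (hadjB y hyB hqy)) hm
      exact ⟨m * g, mul_mem hmR hg', by rw [← hmy, ← hgy]; group⟩
  have memR : ∀ {x}, x ∈ B → x ∈ R := fun hx => Subgroup.subset_closure hx
  have hclR : Cfsg.IsThreeTranspositionClass DR := by
    refine ⟨⟨fun r hr => by rw [← Subgroup.orderOf_coe]; exact hs.1 _ hr.1, fun r hr s hs' => ?_⟩,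
      ⟨⟨d, memR hdB⟩, hdB, ?_⟩, ?_⟩
    · rcases hs.2 _ hr.1 _ hs'.1 with h1 | h1
      · exact Or.inl (Subtype.ext h1)
      · exact Or.inr (Subtype.ext h1)
    · ext r
      constructor
      · intro hr
        obtain ⟨g, hg', hgd⟩ := hRtrans r hr.2
        exact isConj_iff.2 ⟨⟨g, hg'⟩, Subtype.ext hgd⟩
      · intro hr
        obtain ⟨g, rfl⟩ := isConj_iff.1 (show IsConj (⟨d, memR hdB⟩ : R) r from hr)
        exact hRB g g.2 d hdB
    · exact Subgroup.closure_closure_coe_preimage (k := B)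
  have hconjR := (group_of_class hclR).2.1
  -- the data in R
  have himgR : R.subtype '' DR = B := by
    ext x
    exact ⟨by rintro ⟨r, hr, rfl⟩; exact hr, fun hx => ⟨⟨x, memR hx⟩, hx, rfl⟩⟩
  have hadjeq : ∀ x ∈ B, adj B x = adj D x := fun x hx => by
    ext y
    exact ⟨fun hy => ⟨hy.1.1, hy.2⟩, fun hy => ⟨hadjB x hx hy, hy.2⟩⟩
  have hdataR : Data22At DR (⟨d, memR hdB⟩ : R) (⟨c, memR hcB⟩ : R) := by
    rw [← data_image hconjR R.subtype R.subtype_injective.injOn (show _ ∈ DR from hdB)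
      (show (⟨c, memR hcB⟩ : R) ∈ DR from hcB), himgR]
    obtain ⟨-, -, -, hP, hRd⟩ := h
    show Data22At B d c
    obtain ⟨F, i1, i2, hF, ⟨e⟩⟩ := hP
    obtain ⟨c₃, hc3, hR3⟩ := hRd
    obtain ⟨e1⟩ := closure_quot_equiv hg.2.1 (MonoidHom.id G) Function.injective_id.injOn
      (S := adj D d) (fun z hz => hz.1) (T := adj B d) (by rw [hadjeq d hdB]; exact (Set.image_id _).symm)
    obtain ⟨e2⟩ := closure_quot_equiv hg.2.1 (MonoidHom.id G) Function.injective_id.injOn
      (S := common D d c) (fun z hz => hz.1.1) (T := common B d c)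
      (by rw [common, hadjeq d hdB, hadjeq c hcB]; exact (Set.image_id _).symm)
    exact ⟨hdB, hcB, hdc, ⟨F, i1, i2, hF, ⟨e1.symm.trans e⟩⟩, c₃, hc3, proj_refl_congr e2 hR3⟩
  have h2R : ∃ a ∈ DR, ∃ b ∈ DR, a ≠ b := ⟨⟨d, memR hdB⟩, hdB, ⟨c, memR hcB⟩, hcB,
    fun e => hdc (by rw [show d = c from congrArg Subtype.val e])⟩
  have hccR := centralCores_of_local_simple hclR (show (⟨d, memR hdB⟩ : R) ∈ DR from hdB) (simple_of_data hdataR)
  have hrad := trivialRadical_quotient (group_of_class hclR) hccR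
  have hinjR : Set.InjOn (toQ R) DR := fun x hx y hy e => mk_inj hclR h2R hx hy e
  have S : FischerM22.Fi22Setup (toQ R '' DR) := by
    refine ⟨class_quotient hclR h2R, centralCores_of_trivialRadical hrad, ?_,
      type22_of_data (center_eq_bot_of_trivialRadical hrad)
        ((data_image hconjR (toQ R) hinjR (show _ ∈ DR from hdB) (show _ ∈ DR from hcB)).2 hdataR)⟩
    have key' : ∀ x, Reach D d x → ∀ hx : x ∈ B,
        Reach (toQ R '' DR) (toQ R ⟨d, memR hdB⟩) (toQ R ⟨x, memR hx⟩) := by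
      intro x hx
      induction hx with
      | refl => intro _; exact ReflTransGen.refl
      | @tail y z hy hyz ih =>
        intro hz
        exact (ih ⟨hyz.1, hy⟩).tail ⟨⟨_, (⟨hyz.1, hy⟩ : y ∈ B), rfl⟩, ⟨_, hz, rfl⟩,
          Commute.map (show Commute (⟨y, _⟩ : R) ⟨z, _⟩ from Subtype.ext hyz.2.2) _⟩
    rintro _ ⟨u, hu, rfl⟩ _ ⟨w, hw, rfl⟩
    exact (reach_symm (key' u hu.2 hu)).trans (key' w hw.2 hw)
  -- seven members with central product
  obtain ⟨L, hlen, hmem, hprod⟩ := FischerM22.exists_six S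
    (show toQ R ⟨d, memR hdB⟩ ∈ toQ R '' DR from ⟨_, hdB, rfl⟩)
  have hlift : ∀ L : List (↥R ⧸ Subgroup.center ↥R), (∀ y ∈ L, y ∈ toQ R '' DR) →
      ∃ L' : List R, L'.length = L.length ∧ (∀ y ∈ L', y ∈ DR) ∧ toQ R L'.prod = L.prod := by
    intro L
    induction L with
    | nil => exact fun _ => ⟨[], rfl, by simp, by simp⟩
    | cons y L ih =>
      intro hy
      obtain ⟨x, hx, e⟩ := hy y List.mem_cons_self
      obtain ⟨L', l1, l2, l3⟩ := ih fun z hz => hy z (List.mem_cons_of_mem _ hz)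
      refine ⟨x :: L', by simp [l1], fun z hz => ?_, by
        rw [List.prod_cons, map_mul, e, l3, List.prod_cons]⟩
      rcases List.mem_cons.1 hz with rfl | hz
      exacts [hx, l2 z hz]
  obtain ⟨L', l1, l2, l3⟩ := hlift L fun y hy => (hmem y hy).1
  set zR : R := (⟨d, memR hdB⟩ : R) * L'.prod with hzR
  have hzc : ∀ x ∈ B, Commute x (zR : G) := by
    intro x hx
    have hz : zR ∈ Subgroup.center ↥R := (QuotientGroup.eq_one_iff _).1 (by
      show toQ R zR = 1
      rw [hzR, map_mul, l3, hprod]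
      exact mul_self S.cls.1 ⟨_, hdB, rfl⟩)
    exact congrArg Subtype.val (Subgroup.mem_center_iff.1 hz ⟨x, memR hx⟩)
  -- odd products swap the components of v and its conjugate
  have hcd : ∀ w ∈ B, ¬ Commute v w := fun w hw hc' => hvB (hBcl w hw v hvD hc'.symm).2
  set v' := v * d * v with hv'
  have hswap : ∀ w ∈ B, ∀ y, (Reach D v y → Reach D v' (w * y * w⁻¹)) ∧
      (Reach D v' y → Reach D v (w * y * w⁻¹)) := by
    intro w hw y
    have h1 : Reach D v' (w * v * w⁻¹) := by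
      have := reach_conj hg.2.1 v hw.2
      rw [inv_eq hs hvD] at this
      rwa [inv_eq hs hw.1, ← braid hs hvD hw.1 (hcd w hw)]
    refine ⟨fun hy => h1.trans (reach_conj hg.2.1 w hy), fun hy => ?_⟩
    have h2' := reach_symm (reach_conj hg.2.1 w h1)
    rw [show w * (w * v * w⁻¹) * w⁻¹ = v by
      rw [inv_eq hs hw.1]; simp only [mul_assoc, mul_self_cancel hs hw.1, mul_self hs hw.1, mul_one]] at h2'
    exact (h2').trans (reach_conj hg.2.1 w hy)
  have hpar : ∀ l : List R, (∀ y ∈ l, y ∈ DR) →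
      (Even l.length → Reach D v ((l.prod : R) * v * ((l.prod : R) : G)⁻¹)) ∧
      (Odd l.length → Reach D v' ((l.prod : R) * v * ((l.prod : R) : G)⁻¹)) := by
    intro l
    induction l with
    | nil => intro _; exact ⟨fun _ => by simp; exact ReflTransGen.refl, fun h => absurd h (by simp)⟩
    | cons y l ih =>
      intro hy
      obtain ⟨i1, i2⟩ := ih fun z hz => hy z (List.mem_cons_of_mem _ hz)
      have hyB : (y : G) ∈ B := hy y List.mem_cons_self
      have e : (((y :: l).prod : R) : G) * v * (((y :: l).prod : R) : G)⁻¹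
          = (y : G) * (((l.prod : R) : G) * v * ((l.prod : R) : G)⁻¹) * (y : G)⁻¹ := by
        rw [List.prod_cons, Subgroup.coe_mul]; group
      rw [e, List.length_cons]
      exact ⟨fun hev => (hswap _ hyB _).2 (i2 (Nat.not_even_iff_odd.1 (Nat.even_add_one.1 hev))),
        fun hod => (hswap _ hyB _).1 (i1 (Nat.not_odd_iff_even.1 (Nat.odd_add_one.1 hod)))⟩
  set u := (zR : G) * v * (zR : G)⁻¹ with hu
  have huv' : Reach D v' u := by
    have h7 := (hpar (⟨d, memR hdB⟩ :: L') fun y hy => by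
      rcases List.mem_cons.1 hy with rfl | hy
      exacts [hdB, l2 y hy]).2 (by rw [List.length_cons, l1, hlen]; decide)
    rwa [List.prod_cons, ← hzR, ← hu] at h7
  set c0 := v * u * v with hc0
  have hc0B : c0 ∈ B := by
    refine ⟨Cfsg.Agent.ThreeTrans.conj_mem hs hg.2.1 hvD (hg.2.1 _ v hvD), ?_⟩
    have := reach_conj hg.2.1 v huv'
    rw [inv_eq hs hvD, hv'] at this
    simpa [hc0, mul_assoc, mul_self hs hvD, mul_self_cancel hs hvD] using this
  have huc : u = c0 * v * c0 := by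
    rw [← braid hs hvD hc0B.1 (hcd c0 hc0B), hc0]
    simp only [mul_assoc, mul_self hs hvD, mul_self_cancel hs hvD, mul_one]
  set k := c0 * (zR : G) with hk
  let HH := Subgroup.centralizer ({k} : Set G)
  have hH : ∀ g, g ∈ HH ↔ Commute g k := fun g => Subgroup.mem_centralizer_singleton_iff
  have hvH : v ∈ HH := (hH v).2 (by
    show v * k = k * v
    have e1 : k * v * k⁻¹ = v := by
      calc k * v * k⁻¹ = c0 * u * c0⁻¹ := by rw [hk, hu]; group
        _ = v := by
          rw [huc, inv_eq hs hc0B.1]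
          simp only [mul_assoc, mul_self hs hc0B.1, mul_self_cancel hs hc0B.1, mul_one]
    exact (mul_inv_eq_iff_eq_mul.1 e1).symm)
  have hc0H : c0 ∈ HH := (hH c0).2 ((Commute.refl c0).mul_right (hzc c0 hc0B))
  have hA : adj D c0 ⊆ HH := fun y hy =>
    (hH y).2 (hy.2.2.symm.mul_right (hzc y (hadjB c0 hc0B hy)))
  set O : Set G := {x | ∃ g ∈ HH, g * c0 * g⁻¹ = x} with hO
  have hline : ∀ x ∈ O, ∀ y ∈ D, y ∈ HH → ¬ Commute x y → y ∈ O := by
    rintro x ⟨g, hg', rfl⟩ y hy hyH hxy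
    have hxD := hg.2.1 g c0 hc0B.1
    have hxH : g * c0 * g⁻¹ ∈ HH := mul_mem (mul_mem hg' hc0H) (inv_mem hg')
    refine ⟨g * c0 * g⁻¹ * y * g, mul_mem (mul_mem hxH hyH) hg', ?_⟩
    generalize hxe : g * c0 * g⁻¹ = x at hxy hxD
    calc x * y * g * c0 * (x * y * g)⁻¹ = x * y * (g * c0 * g⁻¹) * (y⁻¹ * x⁻¹) := by group
      _ = x * (y * x * y) * x := by rw [hxe, inv_eq hs hy, inv_eq hs hxD]; simp only [mul_assoc]
      _ = y := by
          rw [braid hs hy hxD fun h => hxy h.symm]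
          simp only [mul_assoc, mul_self hs hxD, mul_one, mul_self_cancel hs hxD]
  have hc0O : c0 ∈ O := ⟨1, one_mem _, by simp⟩
  have hvO : v ∈ O := hline c0 hc0O v hvD hvH fun h => hcd c0 hc0B h.symm
  have hAO : adj D c0 ⊆ O := fun y hy => hline v hvO y hy.1 (hA hy) (hcd y (hadjB c0 hc0B hy))
  have hall : ∀ x, Reach D c0 x → x ∈ O := by
    intro x hx
    induction hx with
    | refl => exact hc0O
    | @tail y z _ hyz ih =>
      obtain ⟨g, hg', rfl⟩ := ih
      rcases eq_or_ne z (g * c0 * g⁻¹) with rfl | hne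
      · exact ⟨g, hg', rfl⟩
      obtain ⟨m, hm, hme⟩ := hAO ((conj_adj hg.2.1 g c0 z).1 ⟨hyz.2.1, hne, hyz.2.2⟩)
      refine ⟨g * m, mul_mem hg' hm, ?_⟩
      calc g * m * c0 * (g * m)⁻¹ = g * (m * c0 * m⁻¹) * g⁻¹ := by group
        _ = z := by rw [hme]; group
  obtain ⟨e, he, hne⟩ := exists_not_commute hclR h2R (show (⟨c0, memR hc0B⟩ : R) ∈ DR from hc0B)
  obtain ⟨g, hg', hge⟩ := hall e ((reach_symm hc0B.2).trans he.2)
  have heH : (e : G) ∈ HH := by rw [← hge]; exact mul_mem (mul_mem hg' hc0H) (inv_mem hg')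
  refine hne (Subtype.ext ?_)
  have h1 := (((hH _).1 heH).mul_right (hzc e he).inv_right).symm
  rw [hk, mul_inv_cancel_right] at h1
  exact h1.eq

end Cfsg.Agent.FischerM23
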