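/-
Groups of type M(23): the centraliser of a member modulo the member is of type M(22).

Main results (namespace `Cfsg.Agent.FischerM23`):
* `Fi23Setup`, `setup_of_primitive`, `localSetup` : every local quotient is a group of type M(22);
* `adj_ncard`, `common_ncard`, `triple_ncard`, `far_triple_ncard`, `quad_ncard`, `far_quad_ncard` : 3510, 693,
  180, 126, 51, 45;
* `line_three`, `eq_one_or_self`, `adjSeparated`, `exists_six`, `mem_loc_self`, `mem_center_loc_iff`;
* `loc_card`, `loc_quasisimple`, `stab_edge`, `exists_transport`, `trans_commuting`, `trans_noncommuting`.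
-/
import Cfsg.Agent.Lib.FischerM23.Quot

set_option autoImplicit false

namespace Cfsg.Agent.FischerM23

open Cfsg.Agent.ThreeTrans Cfsg.Agent.ThreeTransSU

variable {G : Type*} [Group G] {D : Set G}

/-- The local group modulo its centre. -/
abbrev QL (D : Set G) (a : G) : Type _ := ↥(Loc D a) ⧸ Subgroup.center ↥(Loc D a)

/-- Its distinguished set. -/
abbrev QSet (D : Set G) (a : G) : Set (QL D a) := toQ ↥(Loc D a) '' locSet D a

/-- A group of type M(23). -/
structure Fi23Setup (D : Set G) : Prop where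
  cls : Cfsg.IsThreeTranspositionClass D
  cores : CentralCores G
  conn : ConnectedComm D
  type23 : Cfsg.IsOfTypeM23 G D

theorem exists_local_type22 (h : Cfsg.IsOfTypeM23 G D) :
    ∃ d ∈ D, (adj D d).Nonempty ∧ Cfsg.IsOfTypeM22 (QL D d) (QSet D d) := by
  obtain ⟨-, d, hd, c, -, -, h22, -⟩ := h
  change Cfsg.IsOfTypeM22 (QL D d) (QSet D d) at h22
  obtain ⟨x, ⟨y, hy, rfl⟩, -⟩ := exists_simple_of_M22 h22
  exact ⟨d, hd, ⟨(y : G), hy⟩, h22⟩

theorem setup_of_primitive [Finite G] (hD : Cfsg.IsThreeTranspositionGroup D)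
    (hprim : Cfsg.IsPrimitiveUnderConj D) (h23 : Cfsg.IsOfTypeM23 G D) : Fi23Setup D := by
  obtain ⟨d, hd, ⟨y, hy⟩, -⟩ := exists_local_type22 h23
  obtain ⟨h1, h2⟩ := mtype_setup hD hprim hd ⟨y, hy⟩
  exact ⟨h1, h2, connected_of_primitive hD hprim ⟨d, hd, y, hy.1, hy.2.1.symm, hy.2.2⟩, h23⟩

namespace Fi23Setup

theorem grp (S : Fi23Setup D) : Cfsg.IsThreeTranspositionGroup D := group_of_class S.cls

theorem conj_mem (S : Fi23Setup D) (g : G) {d : G} (hd : d ∈ D) : g * d * g⁻¹ ∈ D := S.grp.2.1 g d hd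

theorem adj_nonempty [Finite G] (S : Fi23Setup D) {a : G} (ha : a ∈ D) : (adj D a).Nonempty := by
  obtain ⟨d, hd, hne, -⟩ := exists_local_type22 S.type23
  exact adj_nonempty_all S.cls hd ha hne

theorem two_members [Finite G] (S : Fi23Setup D) : ∃ a ∈ D, ∃ b ∈ D, a ≠ b := by
  obtain ⟨d, hd, ⟨y, hy⟩, -⟩ := exists_local_type22 S.type23
  exact ⟨d, hd, y, hy.1, hy.2.1.symm⟩

theorem loc_cls [Finite G] (S : Fi23Setup D) {a : G} (ha : a ∈ D) :
    Cfsg.IsThreeTranspositionClass (locSet D a) :=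
  loc_class S.cls S.cores ha (S.adj_nonempty ha)

theorem loc_two [Finite G] (S : Fi23Setup D) {a : G} (ha : a ∈ D) :
    ∃ x ∈ locSet D a, ∃ y ∈ locSet D a, x ≠ y :=
  ThreeTrans.loc_two S.cls S.cores ha (S.adj_nonempty ha)

theorem locInj [Finite G] (S : Fi23Setup D) {a : G} (ha : a ∈ D) :
    Set.InjOn (toQ ↥(Loc D a)) (locSet D a) :=
  fun _ hx _ hy h => mk_inj (S.loc_cls ha) (S.loc_two ha) hx hy h

theorem exists_data [Finite G] (S : Fi23Setup D) {a : G} (ha : a ∈ D) :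
    ∃ x y, Data22At (locSet D a) x y := by
  obtain ⟨d, hd, -, h22⟩ := exists_local_type22 S.type23
  obtain ⟨x', y', h⟩ := data_of_type22 h22
  obtain ⟨x, hx, rfl⟩ := h.1
  obtain ⟨y, hy, rfl⟩ := h.2.1
  have hconj := (group_of_class (S.loc_cls hd)).2.1
  rw [data_image hconj _ (S.locInj hd) hx hy] at h
  obtain ⟨g, hg⟩ := class_conj S.cls hd ha
  have hadj : adj D a = (fun z => g * z * g⁻¹) '' adj D d := by rw [← hg, adj_conj_image S.grp.2.1]
  have hmap : ∀ z : ↥(Loc D d), g * (z : G) * g⁻¹ ∈ Loc D a := fun z => by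
    have h1 : (z : G) ∈ (Loc D a).comap (MulAut.conj g).toMonoidHom := by
      refine (Subgroup.closure_le _).2 (fun w hw => ?_) z.2
      show g * w * g⁻¹ ∈ Loc D a
      exact Subgroup.subset_closure (hadj ▸ ⟨w, hw, rfl⟩)
    exact h1
  let φ : ↥(Loc D d) →* ↥(Loc D a) :=
    ((MulAut.conj g).toMonoidHom.comp (Loc D d).subtype).codRestrict _ hmap
  have hinj : Set.InjOn φ (locSet D d) := fun u _ v _ e =>
    Subtype.ext ((MulAut.conj g).injective (congrArg Subtype.val e))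
  have himg : φ '' locSet D d = locSet D a := by
    ext z
    constructor
    · rintro ⟨w, hw, rfl⟩
      show g * (w : G) * g⁻¹ ∈ adj D a
      exact hadj ▸ ⟨w, hw, rfl⟩
    · intro hz
      have hz' : (z : G) ∈ adj D a := hz
      rw [hadj] at hz'
      obtain ⟨w, hw, e⟩ := hz'
      exact ⟨⟨w, Subgroup.subset_closure hw⟩, hw, Subtype.ext e⟩
  rw [← data_image hconj φ hinj hx hy, himg] at h
  exact ⟨φ x, φ y, h⟩

theorem loc_cores [Finite G] (S : Fi23Setup D) {a : G} (ha : a ∈ D) : CentralCores ↥(Loc D a) := by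
  obtain ⟨x, y, h⟩ := S.exists_data ha
  exact centralCores_of_local_simple (S.loc_cls ha) h.1 (simple_of_data h)

/-- The local quotients are of type M(22). -/
theorem localSetup [Finite G] (S : Fi23Setup D) {a : G} (ha : a ∈ D) :
    FischerM22.Fi22Setup (QSet D a) := by
  obtain ⟨x, y, h⟩ := S.exists_data ha
  have hrad := trivialRadical_quotient (group_of_class (S.loc_cls ha)) (S.loc_cores ha)
  have hq := (data_image (group_of_class (S.loc_cls ha)).2.1 _ (S.locInj ha) h.1 h.2.1).2 h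
  have hcls := class_quotient (S.loc_cls ha) (S.loc_two ha)
  have hcc := centralCores_of_trivialRadical hrad
  have hZ := center_eq_bot_of_trivialRadical hrad
  exact ⟨hcls, hcc, connected_of_data hcls hcc hZ hq, type22_of_data hZ hq⟩

end Fi23Setup

/-- The image in the local quotient. -/
noncomputable def qm (D : Set G) (a y : G) : QL D a := by
  classical exact if h : y ∈ Loc D a then toQ ↥(Loc D a) ⟨y, h⟩ else 1

theorem qm_of_mem {a y : G} (h : y ∈ Loc D a) : qm D a y = toQ ↥(Loc D a) ⟨y, h⟩ := by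
  rw [qm, dif_pos h]

theorem qm_coe {a : G} (h : ↥(Loc D a)) : qm D a (h : G) = toQ ↥(Loc D a) h := qm_of_mem h.2

theorem mem_loc_of_adj {a y : G} (h : y ∈ adj D a) : y ∈ Loc D a := Subgroup.subset_closure h

theorem qm_mul {a y z : G} (hy : y ∈ Loc D a) (hz : z ∈ Loc D a) :
    qm D a (y * z) = qm D a y * qm D a z := by
  rw [qm_of_mem hy, qm_of_mem hz, qm_of_mem (mul_mem hy hz), ← map_mul]
  rfl

theorem qset_eq (a : G) : QSet D a = qm D a '' adj D a := by
  ext q
  constructor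
  · rintro ⟨x, hx, rfl⟩
    exact ⟨x, hx, qm_coe x⟩
  · rintro ⟨y, hy, rfl⟩
    exact ⟨⟨y, mem_loc_of_adj hy⟩, hy, (qm_of_mem _).symm⟩

theorem qm_mem {a y : G} (h : y ∈ adj D a) : qm D a y ∈ QSet D a := by
  rw [qset_eq]; exact ⟨y, h, rfl⟩

variable [Finite G]

theorem qm_inj (S : Fi23Setup D) {a : G} (ha : a ∈ D) : Set.InjOn (qm D a) (adj D a) := by
  intro y hy z hz h
  rw [qm_of_mem (mem_loc_of_adj hy), qm_of_mem (mem_loc_of_adj hz)] at h
  exact congrArg Subtype.val (S.locInj ha (show _ ∈ locSet D a from hy) (show _ ∈ locSet D a from hz) h)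

theorem qm_comm (S : Fi23Setup D) {a y z : G} (ha : a ∈ D) (hy : y ∈ adj D a) (hz : z ∈ adj D a) :
    Commute (qm D a y) (qm D a z) ↔ Commute y z := by
  rw [qm_of_mem (mem_loc_of_adj hy), qm_of_mem (mem_loc_of_adj hz)]
  refine ⟨fun h => commute_coe_iff.1 (commute_of_commute_mk (S.loc_cls ha) (S.loc_two ha)
    (show (⟨y, _⟩ : ↥(Loc D a)) ∈ locSet D a from hy) (show (⟨z, _⟩ : ↥(Loc D a)) ∈ locSet D a from hz) h),
    fun h => Commute.map (show Commute (⟨y, _⟩ : ↥(Loc D a)) ⟨z, _⟩ from Subtype.ext h) _⟩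

theorem qm_adj (S : Fi23Setup D) {a x : G} (ha : a ∈ D) (hx : x ∈ adj D a) :
    adj (QSet D a) (qm D a x) = qm D a '' (adj D a ∩ adj D x) := by
  ext q
  rw [qset_eq]
  constructor
  · rintro ⟨⟨y, hy, rfl⟩, hne, hc⟩
    exact ⟨y, ⟨hy, hy.1, fun e => hne (e ▸ rfl), (qm_comm S ha hx hy).1 hc⟩, rfl⟩
  · rintro ⟨y, ⟨hy, -, hne, hc⟩, rfl⟩
    exact ⟨⟨y, hy, rfl⟩, fun e => hne (qm_inj S ha hy hx e), (qm_comm S ha hx hy).2 hc⟩

theorem qm_mem_adj (S : Fi23Setup D) {a x y : G} (ha : a ∈ D) (hx : x ∈ adj D a) (hy : y ∈ adj D a)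
    (hne : y ≠ x) (hc : Commute x y) : qm D a y ∈ adj (QSet D a) (qm D a x) := by
  rw [qm_adj S ha hx]; exact ⟨y, ⟨hy, hy.1, hne, hc⟩, rfl⟩

theorem qm_inter (S : Fi23Setup D) {a : G} (ha : a ∈ D) {s t : Set G} (hs : s ⊆ adj D a)
    (ht : t ⊆ adj D a) : qm D a '' s ∩ qm D a '' t = qm D a '' (s ∩ t) :=
  ((qm_inj S ha).image_inter hs ht).symm

theorem qm_ncard (S : Fi23Setup D) {a : G} (ha : a ∈ D) {s : Set G} (hs : s ⊆ adj D a) :
    (qm D a '' s).ncard = s.ncard :=
  Set.InjOn.ncard_image ((qm_inj S ha).mono hs)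

/-! ### counts -/

theorem adj_ncard (S : Fi23Setup D) {a : G} (ha : a ∈ D) : (adj D a).ncard = 3510 := by
  rw [← qm_ncard S ha subset_rfl, ← qset_eq, FischerM22.class_ncard (S.localSetup ha)]

theorem common_ncard (S : Fi23Setup D) {a x : G} (ha : a ∈ D) (hx : x ∈ adj D a) :
    (adj D a ∩ adj D x).ncard = 693 := by
  rw [← qm_ncard S ha Set.inter_subset_left, ← qm_adj S ha hx,
    FischerM22.adj_ncard (S.localSetup ha) (qm_mem hx)]

theorem qm_adj_inter (S : Fi23Setup D) {a x y : G} (ha : a ∈ D) (hx : x ∈ adj D a) (hy : y ∈ adj D a) :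
    adj (QSet D a) (qm D a x) ∩ adj (QSet D a) (qm D a y) = qm D a '' (adj D a ∩ adj D x ∩ adj D y) := by
  rw [qm_adj S ha hx, qm_adj S ha hy, qm_inter S ha Set.inter_subset_left Set.inter_subset_left,
    ← Set.inter_inter_distrib_left, Set.inter_assoc]

theorem triple_ncard (S : Fi23Setup D) {a x y : G} (ha : a ∈ D) (hx : x ∈ adj D a) (hy : y ∈ adj D a)
    (hne : x ≠ y) (hc : Commute x y) : (adj D a ∩ adj D x ∩ adj D y).ncard = 180 := by
  rw [← qm_ncard S ha (Set.inter_subset_left.trans Set.inter_subset_left), ← qm_adj_inter S ha hx hy,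
    FischerM22.common_ncard (S.localSetup ha) (qm_mem hx) (qm_mem_adj S ha hx hy hne.symm hc)]

theorem far_triple_ncard (S : Fi23Setup D) {a x y : G} (ha : a ∈ D) (hx : x ∈ adj D a) (hy : y ∈ adj D a)
    (hc : ¬ Commute x y) : (adj D a ∩ adj D x ∩ adj D y).ncard = 126 := by
  rw [← qm_ncard S ha (Set.inter_subset_left.trans Set.inter_subset_left), ← qm_adj_inter S ha hx hy]
  exact FischerM22.common_card (S.localSetup ha) (qm_mem hx) (qm_mem hy) fun h => hc ((qm_comm S ha hx hy).1 h)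

theorem qm_adj_inter_three (S : Fi23Setup D) {a b x y : G} (ha : a ∈ D) (hb : b ∈ adj D a)
    (hx : x ∈ adj D a) (hy : y ∈ adj D a) :
    adj (QSet D a) (qm D a b) ∩ adj (QSet D a) (qm D a x) ∩ adj (QSet D a) (qm D a y)
      = qm D a '' (adj D a ∩ adj D b ∩ adj D x ∩ adj D y) := by
  rw [qm_adj_inter S ha hb hx, qm_adj S ha hy,
    qm_inter S ha (Set.inter_subset_left.trans Set.inter_subset_left) Set.inter_subset_left]
  congr 1
  ext z
  simp only [Set.mem_inter_iff]
  tauto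

theorem quad_ncard (S : Fi23Setup D) {a b x y : G} (ha : a ∈ D) (hb : b ∈ adj D a)
    (hx : x ∈ adj D a ∩ adj D b) (hy : y ∈ adj D a ∩ adj D b) (hne : x ≠ y) (hc : Commute x y) :
    (adj D a ∩ adj D b ∩ adj D x ∩ adj D y).ncard = 51 := by
  rw [← qm_ncard S ha ((Set.inter_subset_left.trans Set.inter_subset_left).trans Set.inter_subset_left),
    ← qm_adj_inter_three S ha hb hx.1 hy.1]
  exact FischerM22.orth_ncard (S.localSetup ha) (qm_mem hb) (qm_mem_adj S ha hb hx.1 hx.2.2.1 hx.2.2.2)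
    (qm_mem_adj S ha hb hy.1 hy.2.2.1 hy.2.2.2) (fun e => hne (qm_inj S ha hx.1 hy.1 e))
    ((qm_comm S ha hx.1 hy.1).2 hc)

theorem far_quad_ncard (S : Fi23Setup D) {a b x y : G} (ha : a ∈ D) (hb : b ∈ adj D a)
    (hx : x ∈ adj D a ∩ adj D b) (hy : y ∈ adj D a ∩ adj D b) (hc : ¬ Commute x y) :
    (adj D a ∩ adj D b ∩ adj D x ∩ adj D y).ncard = 45 := by
  rw [← qm_ncard S ha ((Set.inter_subset_left.trans Set.inter_subset_left).trans Set.inter_subset_left),
    ← qm_adj_inter_three S ha hb hx.1 hy.1]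
  exact FischerM22.hyp_ncard (S.localSetup ha) (qm_mem hb) (qm_mem_adj S ha hb hx.1 hx.2.2.1 hx.2.2.2)
    (qm_mem_adj S ha hb hy.1 hy.2.2.1 hy.2.2.2) fun h => hc ((qm_comm S ha hx.1 hy.1).1 h)

/-! ### lines and the centre of the local group -/

/-- Inside the neighbours of `q`, the line through two non-commuting `a, x` is `{a, x, a x a}`. -/
theorem line_three (S : Fi23Setup D) {q a x z : G} (hq : q ∈ D) (ha : a ∈ adj D q) (hx : x ∈ adj D q)
    (hax : ¬ Commute a x) (hz : z ∈ adj D q)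
    (H : ∀ y ∈ adj D q, Commute y a → Commute y x → Commute y z) : z = a ∨ z = x ∨ z = a * x * a := by
  have hD := S.cls.1
  obtain ⟨p, hp, hpz⟩ : ∃ p ∈ adj D q ∩ adj D a ∩ adj D x, p ≠ z :=
    Set.exists_ne_of_one_lt_ncard (by rw [far_triple_ncard S hq ha hx hax]; norm_num) z
  obtain ⟨⟨hpq, hpa⟩, hpx⟩ := hp
  have hzp : Commute p z := H p hpq hpa.2.2.symm hpx.2.2.symm
  have hax' : a * x * a ∈ adj D q := by
    refine ⟨Cfsg.Agent.ThreeTrans.conj_mem hD S.grp.2.1 ha.1 hx.1, fun e => ?_,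
      (ha.2.2.mul_right hx.2.2).mul_right ha.2.2⟩
    have h2 : x = q := by
      calc x = a * (a * x * a) * a := by
            simp only [mul_assoc, mul_self_cancel hD ha.1, mul_self hD ha.1, mul_one]
        _ = q := by rw [e, ← ha.2.2.eq, mul_assoc, mul_self hD ha.1, mul_one]
    exact hx.2.1 h2
  have hla := mem_loc_of_adj ha
  have hlx := mem_loc_of_adj hx
  rcases FischerM22.line_three (S.localSetup hq) (qm_mem hpq)
      (qm_mem_adj S hq hpq ha hpa.2.1.symm hpa.2.2.symm) (qm_mem_adj S hq hpq hx hpx.2.1.symm hpx.2.2.symm)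
      (fun h => hax ((qm_comm S hq ha hx).1 h)) (qm_mem_adj S hq hpq hz hpz.symm hzp)
      (fun w hw hwa hwx => by
        rw [qm_adj S hq hpq] at hw
        obtain ⟨y, ⟨hy, -⟩, rfl⟩ := hw
        exact (qm_comm S hq hy hz).2 (H y hy ((qm_comm S hq hy ha).1 hwa) ((qm_comm S hq hy hx).1 hwx)))
    with h | h | h
  · exact Or.inl (qm_inj S hq hz ha h)
  · exact Or.inr (Or.inl (qm_inj S hq hz hx h))
  · rw [← qm_mul hla hlx, ← qm_mul (mul_mem hla hlx) hla] at h
    exact Or.inr (Or.inr (qm_inj S hq hz hax' h))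

/-- Only `1` and `a` centralise `a` and its neighbours. -/
theorem eq_one_or_self (S : Fi23Setup D) {a z : G} (ha : a ∈ D) (hza : Commute z a)
    (hadj : ∀ y ∈ adj D a, Commute z y) : z = 1 ∨ z = a := by
  have hD := S.cls.1
  obtain ⟨q, hq⟩ := S.adj_nonempty ha
  have haq := FischerM22.adj_symm ha hq
  obtain ⟨x, hx, hax⟩ : ∃ x ∈ adj D q, ¬ Commute a x := by
    obtain ⟨w, hw, hwa⟩ := exists_not_commute (S.localSetup hq.1).cls (S.localSetup hq.1).two_members
      (qm_mem haq)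
    rw [qset_eq] at hw
    obtain ⟨x, hx, rfl⟩ := hw
    exact ⟨x, hx, fun h => hwa ((qm_comm S hq.1 haq hx).2 h)⟩
  have fix : ∀ w, Commute w a → (∀ y ∈ adj D a, Commute w y) → Commute w x → w = 1 := by
    intro w hwa hw hwx
    let H := Subgroup.centralizer ({w} : Set G)
    have hH : ∀ g, g ∈ H ↔ Commute g w := fun g => Subgroup.mem_centralizer_singleton_iff
    have htop : H = ⊤ := eq_top_of_contains_local S.cls S.two_members S.cores S.conn ha hx.1
      ((hH a).2 hwa.symm) ((hH _).2 hwx.symm) (fun y hy => (hH y).2 (hw y hy).symm) hax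
    have hc : w ∈ Subgroup.center G :=
      Subgroup.mem_center_iff.2 fun g => (hH g).1 (htop ▸ Subgroup.mem_top g)
    rwa [S.type23.1, Subgroup.mem_bot] at hc
  have hzq := hadj q hq
  have conj_fix : ∀ {g y : G}, Commute g y → g * y * g⁻¹ = y := fun {g y} h => by
    rw [h.eq, mul_inv_cancel_right]
  have hx1 : z * x * z⁻¹ ∈ adj D q := by
    have := (conj_adj S.grp.2.1 z q (z * x * z⁻¹)).2 (by simpa [mul_assoc] using hx)
    rwa [conj_fix hzq] at this
  rcases line_three S hq.1 haq hx hax hx1 (fun y hyq hya hyx => by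
    have hy' : y ∈ adj D a := FischerM22.adj_of_not_commute hax hyq.1 hya hyx
    have := hyx.map (MulAut.conj z).toMonoidHom
    simp only [MulEquiv.coe_toMonoidHom, MulAut.conj_apply] at this
    rwa [conj_fix (hadj y hy')] at this) with h | h | h
  · exact absurd (show Commute a x by
      have e : x = a := by
        calc x = z⁻¹ * (z * x * z⁻¹) * z := by group
          _ = z⁻¹ * (a * z) := by rw [h, mul_assoc]
          _ = a := by rw [← hza.eq, inv_mul_cancel_left]
      rw [e]) hax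
  · exact Or.inl (fix z hza hadj (show z * x = x * z by
      conv_rhs => rw [← h]
      group))
  · refine Or.inr ?_
    have h1 := fix (a * z) ((Commute.refl a).mul_left hza) (fun y hy => hy.2.2.mul_left (hadj y hy))
      (show a * z * x = x * (a * z) by
        calc a * z * x = a * (z * x * z⁻¹) * z := by group
          _ = x * (a * z) := by rw [h]; simp only [mul_assoc, mul_self_cancel hD ha])
    rw [eq_inv_of_mul_eq_one_right h1, inv_eq hD ha]

theorem mem_center_loc {a : G} (S : Fi23Setup D) (ha : a ∈ D) {z : ↥(Loc D a)}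
    (hz : z ∈ Subgroup.center ↥(Loc D a)) : (z : G) = 1 ∨ (z : G) = a :=
  eq_one_or_self S ha (commute_of_mem_Loc z.2) fun y hy =>
    (commute_coe_iff.1 (show Commute (⟨y, Subgroup.subset_closure hy⟩ : Loc D a) z from
      Subgroup.mem_center_iff.1 hz _)).symm

/-- Common neighbours separate common neighbours. -/
theorem adjSeparated (S : Fi23Setup D) : AdjSeparated D := by
  intro a ha b hb c hc d hd hrel
  by_contra hne
  have hcd : Commute c d := ((hrel c hc).1 (Commute.refl c)).symm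
  have hsub : adj D a ∩ adj D b ∩ adj D c ⊆ insert d (adj D a ∩ adj D b ∩ adj D c ∩ adj D d) := fun y hy => by
    rcases eq_or_ne y d with e | e
    · exact Or.inl e
    · exact Or.inr ⟨hy, hy.1.1.1, e, (hrel y hy.1).1 hy.2.2.2⟩
  have h := (Set.ncard_le_ncard hsub (Set.toFinite _)).trans (Set.ncard_insert_le _ _)
  rw [triple_ncard S ha hb hc.1 hc.2.2.1.symm hc.2.2.2, quad_ncard S ha hb hc hd hne hcd] at h
  omega

/-- Every member is the product of six of its neighbours. -/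
theorem exists_six (S : Fi23Setup D) {a : G} (ha : a ∈ D) :
    ∃ L : List G, L.length = 6 ∧ (∀ y ∈ L, y ∈ adj D a) ∧ L.prod = a := by
  have hS := S.localSetup ha
  have hD := S.cls.1
  obtain ⟨y₁, hy₁⟩ := S.adj_nonempty ha
  obtain ⟨b', hb', c', hc', hbc, hcomm⟩ := FischerM22.exists_adj_pair hS (qm_mem hy₁)
  obtain ⟨d', e', f', hnd, hmem, h⟩ := exists_other_triple hS.cls hS.cores hS.conn hS.type22
    (qm_mem hy₁) hb'.1 hc'.1 hb'.2.1.symm hc'.2.1.symm hbc hb'.2.2 hc'.2.2 hcomm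
  have lift : ∀ {w}, w ∈ [qm D a y₁, b', c', d', e', f'] → ∃ y ∈ adj D a, qm D a y = w := fun {w} hw => by
    have := ((hmem w).1 hw).1
    rwa [qset_eq] at this
  obtain ⟨y₂, hy₂, e2⟩ := lift (w := b') (by simp)
  obtain ⟨y₃, hy₃, e3⟩ := lift (w := c') (by simp)
  obtain ⟨y₄, hy₄, e4⟩ := lift (w := d') (by simp)
  obtain ⟨y₅, hy₅, e5⟩ := lift (w := e') (by simp)
  obtain ⟨y₆, hy₆, e6⟩ := lift (w := f') (by simp)
  have cc : ∀ {u v}, u ∈ adj D a → v ∈ adj D a → qm D a u ∈ [qm D a y₁, b', c', d', e', f'] →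
      qm D a v ∈ [qm D a y₁, b', c', d', e', f'] → Commute u v := fun hu hv h1 h2 =>
    (qm_comm S ha hu hv).1 (hexSet_commute ((hmem _).1 h1) ((hmem _).1 h2))
  have l1 := mem_loc_of_adj hy₁
  have l2 := mem_loc_of_adj hy₂
  have l3 := mem_loc_of_adj hy₃
  have l4 := mem_loc_of_adj hy₄
  have l5 := mem_loc_of_adj hy₅
  have l6 := mem_loc_of_adj hy₆
  simp only [List.nodup_cons, List.mem_cons, List.not_mem_nil, or_false, not_or, List.nodup_nil,
    and_true, not_false_eq_true, ← e2, ← e3, ← e4, ← e5, ← e6] at hnd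
  obtain ⟨⟨n12, n13, n14, n15, n16⟩, ⟨n23, -, -, -⟩, -, ⟨n45, n46⟩, n56⟩ := hnd
  rw [← e2, ← e3, ← e4, ← e5, ← e6, ← qm_mul l1 l2, ← qm_mul (mul_mem l1 l2) l3, ← qm_mul l4 l5,
    ← qm_mul (mul_mem l4 l5) l6, qm_of_mem (mul_mem (mul_mem l1 l2) l3),
    qm_of_mem (mul_mem (mul_mem l4 l5) l6)] at h
  have hz := (QuotientGroup.eq.1 h)
  have hinv : ∀ {u}, u ∈ adj D a → u⁻¹ = u := fun hu => inv_eq hD hu.1
  refine ⟨[y₃, y₂, y₁, y₄, y₅, y₆], rfl, fun y hy => by
    simp only [List.mem_cons, List.not_mem_nil, or_false] at hy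
    rcases hy with rfl | rfl | rfl | rfl | rfl | rfl <;> assumption, ?_⟩
  have hprod : (y₁ * y₂ * y₃)⁻¹ * (y₄ * y₅ * y₆) = [y₃, y₂, y₁, y₄, y₅, y₆].prod := by
    simp only [List.prod_cons, List.prod_nil, mul_one, mul_inv_rev, hinv hy₁, hinv hy₂, hinv hy₃, mul_assoc]
  rw [← hprod]
  rcases mem_center_loc S ha hz with h1 | h1
  · exfalso
    have h2 : y₁ * y₂ * y₃ = y₄ * y₅ * y₆ := inv_mul_eq_one.1 h1
    rcases triple_mem S.cls S.cores.1 (adjSeparated S) hy₁.1 hy₂.1 hy₃.1 hy₄.1 hy₅.1 hy₆.1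
      (fun e => n12 (e ▸ rfl)) (fun e => n13 (e ▸ rfl)) (fun e => n23 (e ▸ rfl)) (fun e => n45 (e ▸ rfl))
      (fun e => n46 (e ▸ rfl)) (fun e => n56 (e ▸ rfl))
      (cc hy₁ hy₂ (by simp) (by simp [e2])) (cc hy₁ hy₃ (by simp) (by simp [e3]))
      (cc hy₂ hy₃ (by simp [e2]) (by simp [e3])) (cc hy₄ hy₅ (by simp [e4]) (by simp [e5]))
      (cc hy₄ hy₆ (by simp [e4]) (by simp [e6])) (cc hy₅ hy₆ (by simp [e5]) (by simp [e6])) h2 with e | e | e
    exacts [n14 (e ▸ rfl), n15 (e ▸ rfl), n16 (e ▸ rfl)]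
  · exact h1

theorem mem_loc_self (S : Fi23Setup D) {a : G} (ha : a ∈ D) : a ∈ Loc D a := by
  obtain ⟨L, -, hmem, hprod⟩ := exists_six S ha
  exact hprod ▸ (list_prod_mem fun y hy => mem_loc_of_adj (hmem y hy) : L.prod ∈ Loc D a)

theorem mem_center_loc_iff (S : Fi23Setup D) {a : G} (ha : a ∈ D) (z : ↥(Loc D a)) :
    z ∈ Subgroup.center ↥(Loc D a) ↔ (z : G) = 1 ∨ (z : G) = a := by
  refine ⟨mem_center_loc S ha, fun h => Subgroup.mem_center_iff.2 fun g => Subtype.ext ?_⟩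
  rcases h with h | h <;> simp only [Subgroup.coe_mul, h, mul_one, one_mul]
  exact (commute_of_mem_Loc g.2).eq

theorem center_loc (S : Fi23Setup D) {a : G} (ha : a ∈ D) :
    Subgroup.center ↥(Loc D a) = (Subgroup.zpowers a).subgroupOf (Loc D a) := by
  ext z
  rw [mem_center_loc_iff S ha, Subgroup.mem_subgroupOf]
  refine ⟨fun h => ?_, fun h => ?_⟩
  · rcases h with h | h <;> rw [h]
    exacts [one_mem _, Subgroup.mem_zpowers a]
  · obtain ⟨n, hn⟩ := Subgroup.mem_zpowers_iff.1 h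
    rw [← hn]
    rcases Int.even_or_odd' n with ⟨k, rfl | rfl⟩
    · exact Or.inl (by rw [zpow_mul, zpow_two, mul_self S.cls.1 ha, one_zpow])
    · exact Or.inr (by rw [zpow_add, zpow_mul, zpow_two, mul_self S.cls.1 ha, one_zpow, one_mul, zpow_one])

theorem card_center_loc (S : Fi23Setup D) {a : G} (ha : a ∈ D) :
    Nat.card ↥(Subgroup.center ↥(Loc D a)) = 2 := by
  rw [center_loc S ha, Nat.card_congr (Subgroup.subgroupOfEquivOfLe
    (Subgroup.zpowers_le.2 (mem_loc_self S ha))).toEquiv, Nat.card_zpowers, S.cls.1.1 a ha]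

/-- The order of the local group. -/
theorem loc_card (S : Fi23Setup D) {a : G} (ha : a ∈ D) : Nat.card ↥(Loc D a) = 129123503308800 := by
  rw [Subgroup.card_eq_card_quotient_mul_card_subgroup (Subgroup.center ↥(Loc D a)), card_center_loc S ha,
    FischerM22.group_card (S.localSetup ha)]

theorem of_eq_one_of_six (S : Fi23Setup D) {a : G} (ha : a ∈ D) : Abelianization.of a = 1 := by
  obtain ⟨L, hlen, hmem, hprod⟩ := exists_six S ha
  have h6 := FischerM22.map_prod_eq_pow Abelianization.of L (x := Abelianization.of a) fun y hy => by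
    obtain ⟨g, rfl⟩ := class_conj S.cls ha (hmem y hy).1
    rw [map_mul, map_mul, map_inv, mul_right_comm, mul_inv_cancel, one_mul]
  rw [hprod, hlen] at h6
  rw [h6, show 6 = 2 * 3 from rfl, pow_mul, pow_two, ← map_mul, mul_self S.cls.1 ha, map_one, one_pow]

theorem commutator_eq_top (S : Fi23Setup D) : commutator G = ⊤ := by
  rw [eq_top_iff, ← S.cls.2.2, Subgroup.closure_le]
  intro y hy
  rw [SetLike.mem_coe, ← Abelianization.ker_of]
  exact of_eq_one_of_six S hy

theorem loc_perfect (S : Fi23Setup D) {a : G} (ha : a ∈ D) : commutator ↥(Loc D a) = ⊤ := by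
  obtain ⟨L, hlen, hmem, hprod⟩ := exists_six S ha
  let A : ↥(Loc D a) := ⟨a, mem_loc_self S ha⟩
  let L' : List ↥(Loc D a) := L.attach.map fun y => ⟨y.1, mem_loc_of_adj (hmem y.1 y.2)⟩
  have hA : A ∈ commutator ↥(Loc D a) := by
    obtain ⟨b, hb, -⟩ := id (S.loc_cls ha).2.1
    have h6 := FischerM22.map_prod_eq_pow Abelianization.of L' (x := Abelianization.of b) fun y hy => by
      obtain ⟨z, -, rfl⟩ := List.mem_map.1 hy
      obtain ⟨g, hg⟩ := class_conj (S.loc_cls ha) hb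
        (show (⟨z.1, _⟩ : ↥(Loc D a)) ∈ locSet D a from hmem z.1 z.2)
      rw [← hg, map_mul, map_mul, map_inv, mul_right_comm, mul_inv_cancel, one_mul]
    have e1 : L'.prod = A := Subtype.ext (by
      rw [Subgroup.val_list_prod, List.map_map, show (Subtype.val ∘ fun y : {x // x ∈ L} =>
        (⟨y.1, mem_loc_of_adj (hmem y.1 y.2)⟩ : ↥(Loc D a))) = Subtype.val from rfl,
        List.attach_map_subtype_val]
      exact hprod)
    rw [e1, List.length_map, List.length_attach, hlen, show 6 = 2 * 3 from rfl, pow_mul, pow_two,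
      ← map_mul, mul_self (S.loc_cls ha).1 hb, map_one, one_pow] at h6
    rw [← Abelianization.ker_of]
    exact h6
  have hmap : (commutator ↥(Loc D a)).map (toQ ↥(Loc D a)) = ⊤ := by
    have h := FischerM22.commutator_eq_top (S.localSetup ha)
    rw [commutator_def] at h
    rw [commutator_def, Subgroup.map_commutator,
      Subgroup.map_top_of_surjective _ (QuotientGroup.mk'_surjective _), h]
  rw [eq_top_iff]
  intro y _
  obtain ⟨c, hc, hcy⟩ : toQ _ y ∈ (commutator ↥(Loc D a)).map (toQ ↥(Loc D a)) := hmap ▸ Subgroup.mem_top _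
  have hz := QuotientGroup.eq.1 hcy
  have e : y = c * (c⁻¹ * y) := (mul_inv_cancel_left c y).symm
  rw [e]
  refine mul_mem hc ?_
  rcases mem_center_loc S ha hz with h | h
  · rw [show c⁻¹ * y = 1 from Subtype.ext h]; exact one_mem _
  · rw [show c⁻¹ * y = A from Subtype.ext h]; exact hA

theorem loc_quasisimple (S : Fi23Setup D) {a : G} (ha : a ∈ D) : Cfsg.IsQuasisimple ↥(Loc D a) :=
  ⟨Group.isPerfect_def.2 (loc_perfect S ha), FischerM22.isSimpleGroup (S.localSetup ha)⟩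

/-! ### stabilisers and transitivity inside the local group -/

/-- An element of the local quotient centralising `y` comes from the common neighbours of `a, y`. -/
theorem exists_lift_centralizer (S : Fi23Setup D) {a y : G} (ha : a ∈ D) (hy : y ∈ adj D a)
    {q : QL D a} (hq : Commute q (qm D a y)) : ∃ t ∈ Subgroup.closure (adj D a ∩ adj D y), qm D a t = q := by
  have hS := S.localSetup ha
  have h1 : q ∈ Loc (QSet D a) (qm D a y) := by
    rw [← FischerM22.centralizer_eq_loc hS (qm_mem hy)]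
    exact Subgroup.mem_centralizer_singleton_iff.2 hq
  let T := Subgroup.closure (adj D a ∩ adj D y)
  have hT : T ≤ Loc D a := Subgroup.closure_mono Set.inter_subset_left
  have h2 : Loc (QSet D a) (qm D a y) ≤ (T.subgroupOf (Loc D a)).map (toQ ↥(Loc D a)) := by
    refine (Subgroup.closure_le _).2 ?_
    rw [qm_adj S ha hy]
    rintro _ ⟨z, hz, rfl⟩
    exact ⟨⟨z, mem_loc_of_adj hz.1⟩, (Subgroup.subset_closure hz : z ∈ T), (qm_of_mem _).symm⟩
  obtain ⟨t, ht, rfl⟩ := h2 h1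
  exact ⟨t, ht, qm_coe t⟩

theorem commute_of_mem_closure_common {a y t : G}
    (ht : t ∈ Subgroup.closure (adj D a ∩ adj D y)) : t ∈ Loc D a ∧ t ∈ Loc D y ∧ Commute t y :=
  ⟨Subgroup.closure_mono Set.inter_subset_left ht, Subgroup.closure_mono Set.inter_subset_right ht,
    commute_of_mem_Loc (Subgroup.closure_mono Set.inter_subset_right ht)⟩

/-- An element of `Loc a` commuting with `y ∈ adj a` is a product of common neighbours, and possibly `a`. -/
theorem stab_edge_exists (S : Fi23Setup D) {a y h : G} (ha : a ∈ D) (hy : y ∈ adj D a)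
    (hh : h ∈ Loc D a) (hc : Commute h y) :
    ∃ t ∈ Subgroup.closure (adj D a ∩ adj D y), h = t ∨ h = t * a := by
  obtain ⟨t, ht, e⟩ := exists_lift_centralizer S ha hy (q := qm D a h) (by
    rw [qm_of_mem hh, qm_of_mem (mem_loc_of_adj hy)]
    exact Commute.map (show Commute (⟨h, hh⟩ : ↥(Loc D a)) ⟨y, _⟩ from Subtype.ext hc) _)
  have htl := (commute_of_mem_closure_common ht).1
  rw [qm_of_mem htl, qm_of_mem hh] at e
  rcases mem_center_loc S ha (QuotientGroup.eq.1 e) with h1 | h1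
  · exact ⟨t, ht, Or.inl (inv_mul_eq_one.1 h1).symm⟩
  · exact ⟨t, ht, Or.inr (inv_mul_eq_iff_eq_mul.1 h1)⟩

/-- An element of `Loc a` commuting with a neighbour `y` lies in `Loc y`. -/
theorem stab_edge (S : Fi23Setup D) {a y h : G} (ha : a ∈ D) (hy : y ∈ adj D a)
    (hh : h ∈ Loc D a) (hc : Commute h y) : h ∈ Loc D y := by
  obtain ⟨t, ht, rfl | rfl⟩ := stab_edge_exists S ha hy hh hc
  · exact (commute_of_mem_closure_common ht).2.1
  · exact mul_mem (commute_of_mem_closure_common ht).2.1 (mem_loc_of_adj (FischerM22.adj_symm ha hy))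

theorem qm_conj {a g x : G} (hg : g ∈ Loc D a) (hx : x ∈ Loc D a) :
    qm D a (g * x * g⁻¹) = qm D a g * qm D a x * (qm D a g)⁻¹ := by
  rw [qm_of_mem (mul_mem (mul_mem hg hx) (inv_mem hg)), qm_of_mem hg, qm_of_mem hx, ← map_inv, ← map_mul,
    ← map_mul]
  rfl

theorem conj_mem_adj_loc (S : Fi23Setup D) {a h y : G} (hh : h ∈ Loc D a) (hy : y ∈ adj D a) :
    h * y * h⁻¹ ∈ adj D a := by
  have := (adj_conj_image S.grp.2.1 h a).symm.subset ⟨y, hy, rfl⟩
  rwa [show h * a * h⁻¹ = a by rw [(commute_of_mem_Loc hh).eq, mul_inv_cancel_right]] at this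

theorem conj_eq_of_qm (S : Fi23Setup D) {a g x y : G} (ha : a ∈ D) (hg : g ∈ Loc D a)
    (hx : x ∈ adj D a) (hy : y ∈ adj D a)
    (h : qm D a g * qm D a x * (qm D a g)⁻¹ = qm D a y) : g * x * g⁻¹ = y :=
  qm_inj S ha (conj_mem_adj_loc S hg hx) hy (by rw [qm_conj hg (mem_loc_of_adj hx), h])

/-- `Loc y` moves a neighbour to another one, fixing a third commuting with both. -/
theorem exists_transport (S : Fi23Setup D) {y x x' y' : G} (hy : y ∈ D) (hx : x ∈ adj D y)
    (hx' : x' ∈ adj D y) (hy' : y' ∈ adj D y) (hxy : Commute x y') (hx'y : Commute x' y')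
    (hne : x ≠ y') (hne' : x' ≠ y') : ∃ r ∈ Loc D y, Commute r y' ∧ r * x * r⁻¹ = x' := by
  have hS := S.localSetup hy
  obtain ⟨q, hq, hqe⟩ := loc_transitive hS.cls hS.two_members hS.cores (qm_mem hy')
    (qm_mem_adj S hy hy' hx hne hxy.symm) (qm_mem_adj S hy hy' hx' hne' hx'y.symm)
  obtain ⟨t, ht, rfl⟩ := exists_lift_centralizer S hy hy' (commute_of_mem_Loc hq)
  obtain ⟨t1, -, t3⟩ := commute_of_mem_closure_common ht
  exact ⟨t, t1, t3, conj_eq_of_qm S hy t1 hx hx' hqe⟩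

theorem lift_pair (S : Fi23Setup D) {a x x' y y' : G} (ha : a ∈ D) (hx : x ∈ adj D a)
    (hx' : x' ∈ adj D a) (hy : y ∈ adj D a) (hy' : y' ∈ adj D a) {q : QL D a}
    (h1 : q * qm D a x * q⁻¹ = qm D a y) (h2 : q * qm D a x' * q⁻¹ = qm D a y') :
    ∃ h ∈ Loc D a, h * x * h⁻¹ = y ∧ h * x' * h⁻¹ = y' := by
  obtain ⟨h, rfl⟩ := QuotientGroup.mk'_surjective _ q
  rw [← qm_coe h] at h1 h2
  exact ⟨h, h.2, conj_eq_of_qm S ha h.2 hx hy h1, conj_eq_of_qm S ha h.2 hx' hy' h2⟩

/-- Transitivity of the local group on ordered commuting pairs of neighbours. -/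
theorem trans_commuting (S : Fi23Setup D) {a x x' y y' : G} (ha : a ∈ D)
    (hx : x ∈ adj D a) (hx' : x' ∈ adj D a) (hxne : x ≠ x') (hxx : Commute x x')
    (hy : y ∈ adj D a) (hy' : y' ∈ adj D a) (hyne : y ≠ y') (hyy : Commute y y') :
    ∃ h ∈ Loc D a, h * x * h⁻¹ = y ∧ h * x' * h⁻¹ = y' := by
  have hS := S.localSetup ha
  obtain ⟨g, hg⟩ := class_conj hS.cls (qm_mem hx) (qm_mem hy)
  have h1 : g * qm D a x' * g⁻¹ ∈ adj (QSet D a) (qm D a y) := by
    rw [← hg, adj_conj_image hS.grp.2.1]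
    exact ⟨_, qm_mem_adj S ha hx hx' hxne.symm hxx, rfl⟩
  obtain ⟨k, hk, hke⟩ := loc_transitive hS.cls hS.two_members hS.cores (qm_mem hy) h1
    (qm_mem_adj S ha hy hy' hyne.symm hyy)
  refine lift_pair S ha hx hx' hy hy' (q := k * g) ?_ ?_
  · rw [show k * g * qm D a x * (k * g)⁻¹ = k * (g * qm D a x * g⁻¹) * k⁻¹ by group, hg,
      FischerM22.conj_eq_self_of_loc hk]
  · rw [← hke]; group

/-- Transitivity of the local group on ordered non-commuting pairs of neighbours. -/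
theorem trans_noncommuting (S : Fi23Setup D) {a x x' y y' : G} (ha : a ∈ D)
    (hx : x ∈ adj D a) (hx' : x' ∈ adj D a) (hxx : ¬ Commute x x')
    (hy : y ∈ adj D a) (hy' : y' ∈ adj D a) (hyy : ¬ Commute y y') :
    ∃ h ∈ Loc D a, h * x * h⁻¹ = y ∧ h * x' * h⁻¹ = y' := by
  have hS := S.localSetup ha
  obtain ⟨g, hg⟩ := class_conj hS.cls (qm_mem hx) (qm_mem hy)
  have hn : ¬ Commute (qm D a y) (g * qm D a x' * g⁻¹) := by
    rw [← hg]
    intro h
    refine hxx ((qm_comm S ha hx hx').1 ?_)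
    exact Commute.of_map (f := (MulAut.conj g).toMonoidHom) (MulAut.conj g).injective h
  obtain ⟨k, hk, hke⟩ := FischerM22.centralizer_transitive hS (qm_mem hy) (hS.conj_mem g (qm_mem hx'))
    (qm_mem hy') hn fun h => hyy ((qm_comm S ha hy hy').1 h)
  refine lift_pair S ha hx hx' hy hy' (q := k * g) ?_ ?_
  · rw [show k * g * qm D a x * (k * g)⁻¹ = k * (g * qm D a x * g⁻¹) * k⁻¹ by group, hg,
      hk.eq, mul_inv_cancel_right]
  · rw [← hke]; group

end Cfsg.Agent.FischerM23
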