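/-
The common neighbours of two non-commuting members of a group of type M(23).

Main results (namespace `Cfsg.Agent.FischerM23`):
* `centralizer_transitive` : the centraliser of `a` is transitive on the members not commuting with `a`;
* `common_deg` : each common neighbour commutes with 126 others;
* `common_bounds` : there are between 351 and 675 of them; `common_connected`;
* `exists_common_commute` : every neighbour of `a` commutes with one of them.
-/
import Cfsg.Agent.Lib.FischerM23.Local

set_option autoImplicit false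

namespace Cfsg.Agent.FischerM23

open Cfsg.Agent.ThreeTrans Cfsg.Agent.ThreeTransSU
open Cfsg.Agent.FischerM22 (adj_symm adj_comm sum_card_filter sum_card_filter_sq)

variable {G : Type*} [Group G] {D : Set G}

variable [Finite G]

theorem trivialRadical (S : Fi23Setup D) : Cfsg.Agent.ThreeTransRank.TrivialRadical G :=
  trivialRadical_of_center S.grp S.cores S.type23.1

/-- The centraliser of `a` is transitive on the members not commuting with `a`. -/
theorem centralizer_transitive (S : Fi23Setup D) {a y y' : G} (ha : a ∈ D) (hy : y ∈ D) (hy' : y' ∈ D)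
    (h : ¬ Commute a y) (h' : ¬ Commute a y') : ∃ g, Commute g a ∧ g * y * g⁻¹ = y' :=
  noncommuting_transitive (trivialRadical S) S.cls S.conn ha hy hy' h h'

theorem common_nonempty (S : Fi23Setup D) {a e : G} (ha : a ∈ D) (he : e ∈ D) (hae : ¬ Commute a e) :
    (common D a e).Nonempty := by
  by_contra hemp
  have hreach : ∀ x, Relation.ReflTransGen (fun u v => u ∈ D ∧ v ∈ D ∧ Commute u v) a x →
      x ∈ D ∧ Commute a x := by
    intro x hx
    induction hx with
    | refl => exact ⟨ha, Commute.refl a⟩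
    | @tail u v _ huv ih =>
      refine ⟨huv.2.1, ?_⟩
      by_contra hav
      refine hemp ?_
      have hne : u ≠ a := fun e' => hav (e' ▸ huv.2.2)
      have hmem : u ∈ common D a v :=
        ⟨⟨huv.1, hne, ih.2⟩, huv.1, fun e' => hav (e' ▸ ih.2), huv.2.2.symm⟩
      obtain ⟨g, hga, hg⟩ := centralizer_transitive S ha huv.2.1 he hav hae
      rw [← hg, common_conj S.grp.2.1 hga]
      exact ⟨_, u, hmem, rfl⟩
  exact hae (hreach e (S.conn a ha e he)).2

/-- Each common neighbour commutes with 126 others. -/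
theorem common_deg (S : Fi23Setup D) {a e q : G} (ha : a ∈ D) (he : e ∈ D) (hae : ¬ Commute a e)
    (hq : q ∈ common D a e) : (common D a e ∩ adj D q).ncard = 126 := by
  rw [← far_triple_ncard S hq.1.1 (adj_symm ha hq.1) (adj_symm he hq.2) hae]
  congr 1
  unfold common
  ext z
  simp only [Set.mem_inter_iff]
  tauto

/-- The basic inequality for a part of the common neighbours closed under commuting. -/
theorem closed_bound (S : Fi23Setup D) {a e : G} (ha : a ∈ D) (he : e ∈ D) (hae : ¬ Commute a e)
    {C : Set G} (hC : C ⊆ common D a e) (hne : C.Nonempty)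
    (hcl : ∀ q ∈ C, ∀ r ∈ common D a e, Commute q r → r ∈ C)
    (K : Set G) (hK : K ⊆ adj D a) (hK0 : ∀ p ∈ K, ∀ q ∈ C, ¬ Commute p q) :
    68 ≤ C.ncard ∧ 5103 * (C.ncard : ℤ) ≤ (3510 - C.ncard - K.ncard) * (2 * C.ncard - 135) := by
  classical
  have := Fintype.ofFinite G
  set A : Finset G := (adj D a).toFinset with hA
  set c : Finset G := C.toFinset with hc
  set R : G → G → Prop := fun p q => q ∈ adj D p with hR
  have hAc : A.card = 3510 := by rw [hA, ← Set.ncard_eq_toFinset_card']; exact adj_ncard S ha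
  have hcA : c ⊆ A := fun x hx => by
    simp only [hc, hA, Set.mem_toFinset] at hx ⊢
    exact (hC hx).1
  have hcn : c.card = C.ncard := by rw [hc, ← Set.ncard_eq_toFinset_card']
  -- the neighbours inside C
  have hin : ∀ p ∈ c, (c.filter (R p)).card = 126 := by
    intro p hp
    simp only [hc, Set.mem_toFinset] at hp
    rw [← Set.ncard_coe_finset, ← common_deg S ha he hae (hC hp)]
    congr 1
    ext r
    simp only [hc, hR, Finset.coe_filter, Set.mem_toFinset, Set.mem_ofPred_eq, Set.mem_inter_iff]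
    exact ⟨fun h => ⟨hC h.1, h.2⟩, fun h => ⟨hcl p hp r h.1 h.2.2.2, h.2⟩⟩
  have h180 : ∀ q ∈ c, (A.filter fun p => R p q).card = 693 := by
    intro q hq
    simp only [hc, Set.mem_toFinset] at hq
    rw [← Set.ncard_coe_finset, ← common_ncard S ha (hC hq).1]
    congr 1
    ext p
    simp only [hA, hR, Finset.coe_filter, Set.mem_toFinset, Set.mem_ofPred_eq, Set.mem_inter_iff]
    exact and_congr_right fun hp => adj_comm hp.1 (hC hq).1.1
  have htot : ∑ p ∈ A, (c.filter (R p)).card = 693 * c.card := by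
    rw [sum_card_filter, Finset.sum_congr rfl h180, Finset.sum_const, smul_eq_mul, mul_comm]
  have hpair : ∀ q ∈ c, ∀ r ∈ c, (A.filter fun p => R p q ∧ R p r).card
      = if r = q then 693 else if R q r then 180 else 126 := by
    intro q hq r hr
    by_cases h1 : r = q
    · subst h1
      rw [if_pos rfl, ← h180 r hr]
      congr 1
      exact Finset.filter_congr fun p _ => and_self_iff
    rw [if_neg h1]
    simp only [hc, Set.mem_toFinset] at hq hr
    have hset : (↑(A.filter fun p => R p q ∧ R p r) : Set G) = adj D a ∩ adj D q ∩ adj D r := by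
      ext p
      simp only [hA, hR, Finset.coe_filter, Set.mem_toFinset, Set.mem_ofPred_eq, Set.mem_inter_iff]
      refine ⟨fun h => ⟨⟨h.1, (adj_comm h.1.1 (hC hq).1.1).1 h.2.1⟩, (adj_comm h.1.1 (hC hr).1.1).1 h.2.2⟩,
        fun h => ⟨h.1.1, (adj_comm h.1.1.1 (hC hq).1.1).2 h.1.2, (adj_comm h.1.1.1 (hC hr).1.1).2 h.2⟩⟩
    by_cases h2 : R q r
    · rw [if_pos h2, ← Set.ncard_coe_finset, hset]
      exact triple_ncard S ha (hC hq).1 (hC hr).1 (fun h => h1 h.symm) h2.2.2
    · rw [if_neg h2, ← Set.ncard_coe_finset, hset]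
      exact far_triple_ncard S ha (hC hq).1 (hC hr).1 fun h => h2 ⟨(hC hr).1.1, h1, h⟩
  have hsq : (∑ p ∈ A, (c.filter (R p)).card ^ 2 : ℕ) = c.card * (7371 + 126 * c.card) := by
    rw [sum_card_filter_sq, Finset.sum_congr rfl fun q hq => Finset.sum_congr rfl (hpair q hq)]
    refine (Finset.sum_const_nat fun q hq => ?_)
    have h126 := hin q hq
    have e1 : ∀ r ∈ c, (if r = q then 693 else if R q r then 180 else 126 : ℕ)
        = 126 + (if r = q then 567 else 0) + (if R q r then 54 else 0) := by
      intro r _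
      by_cases h : r = q
      · subst h
        rw [if_pos rfl, if_pos rfl, if_neg (fun h' : R r r => h'.2.1 rfl)]
      · by_cases h' : R q r <;> simp [h, h']
    rw [Finset.sum_congr rfl e1, Finset.sum_add_distrib, Finset.sum_add_distrib, Finset.sum_const,
      Finset.sum_ite_eq' c q, if_pos hq, ← Finset.sum_filter, Finset.sum_const, h126]
    simp only [smul_eq_mul]
    ring
  have hc1 : ∑ p ∈ c, (c.filter (R p)).card = 126 * c.card := by
    rw [Finset.sum_congr rfl hin, Finset.sum_const, smul_eq_mul, mul_comm]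
  have hc2 : ∑ p ∈ c, (c.filter (R p)).card ^ 2 = 15876 * c.card := by
    rw [Finset.sum_congr rfl fun p hp => by rw [hin p hp], Finset.sum_const, smul_eq_mul, mul_comm]; rfl
  -- the others
  set k : Finset G := K.toFinset with hk
  have hkc : k ⊆ A \ c := fun p hp => by
    simp only [hk, Set.mem_toFinset] at hp
    simp only [hA, hc, Finset.mem_sdiff, Set.mem_toFinset]
    exact ⟨hK hp, fun h => hK0 p hp p h (Commute.refl p)⟩
  have hk0 : ∀ p ∈ k, (c.filter (R p)).card = 0 := fun p hp => by
    simp only [hk, Set.mem_toFinset] at hp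
    rw [Finset.card_eq_zero, Finset.filter_eq_empty_iff]
    intro q hq h
    simp only [hc, Set.mem_toFinset] at hq
    exact hK0 p hp q hq h.2.2
  set B := (A \ c) \ k with hB
  have hB1 : ∑ p ∈ B, (c.filter (R p)).card + 126 * c.card = 693 * c.card := by
    rw [← htot, ← Finset.sum_sdiff hcA, hc1, ← Finset.sum_sdiff hkc, Finset.sum_eq_zero hk0, add_zero]
  have hB2 : (∑ p ∈ B, (c.filter (R p)).card ^ 2) + 15876 * c.card = c.card * (7371 + 126 * c.card) := by
    rw [← hsq, ← Finset.sum_sdiff hcA, hc2, ← Finset.sum_sdiff hkc,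
      Finset.sum_eq_zero (s := k) (fun p hp => by rw [hk0 p hp]; rfl), add_zero]
  have hBc : B.card + k.card + c.card = 3510 := by
    rw [← hAc, ← Finset.card_sdiff_add_card_eq_card hcA, ← Finset.card_sdiff_add_card_eq_card hkc]
  have hcs : (∑ p ∈ B, (c.filter (R p)).card) ^ 2 ≤ B.card * ∑ p ∈ B, (c.filter (R p)).card ^ 2 :=
    sq_sum_le_card_mul_sum_sq
  have hkn : k.card = K.ncard := by rw [hk, ← Set.ncard_eq_toFinset_card']
  have hpos : 0 < c.card := by rw [hcn]; exact (Set.ncard_pos (Set.toFinite _)).2 hne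
  rw [← hcn, ← hkn]
  generalize ∑ p ∈ B, (c.filter (R p)).card = s1 at hB1 hcs
  generalize ∑ p ∈ B, (c.filter (R p)).card ^ 2 = s2 at hB2 hcs
  zify at hcs hB1 hB2 hBc hpos
  obtain ⟨n, hn⟩ : ∃ n, (c.card : ℤ) = n := ⟨_, rfl⟩
  rw [hn] at hB1 hB2 hBc hpos ⊢
  generalize (B.card : ℤ) = m at *
  have h1 : (s1 : ℤ) = 567 * n := by linarith
  rw [h1] at hcs
  have h2 : (s2 : ℤ) = 63 * n * (2 * n - 135) := by linarith
  rw [h2] at hcs
  have h3 : 321489 * n ≤ m * (63 * (2 * n - 135)) :=
    le_of_mul_le_mul_left (by linarith : n * (321489 * n) ≤ n * (m * (63 * (2 * n - 135)))) hpos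
  have h68 : 68 ≤ n := by
    have : (0 : ℤ) ≤ s2 := Int.natCast_nonneg _
    rw [h2] at this
    by_contra hlt
    nlinarith
  refine ⟨by rw [← hn] at h68; exact_mod_cast h68, ?_⟩
  rw [show (3510 : ℤ) - n - k.card = m by linarith]
  linarith

/-- A nonempty part closed under commuting has between 351 and 675 members. -/
theorem closed_card (S : Fi23Setup D) {a e : G} (ha : a ∈ D) (he : e ∈ D) (hae : ¬ Commute a e)
    {C : Set G} (hC : C ⊆ common D a e) (hne : C.Nonempty)
    (hcl : ∀ q ∈ C, ∀ r ∈ common D a e, Commute q r → r ∈ C) : 351 ≤ C.ncard ∧ C.ncard ≤ 675 := by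
  obtain ⟨-, h⟩ := closed_bound S ha he hae hC hne hcl ∅ (Set.empty_subset _) (by simp)
  rw [Set.ncard_empty, Nat.cast_zero, sub_zero] at h
  zify
  constructor <;> by_contra hlt <;> nlinarith

theorem common_bounds (S : Fi23Setup D) {a e : G} (ha : a ∈ D) (he : e ∈ D) (hae : ¬ Commute a e) :
    351 ≤ (common D a e).ncard ∧ (common D a e).ncard ≤ 675 :=
  closed_card S ha he hae subset_rfl (common_nonempty S ha he hae) fun _ _ _ hr _ => hr

/-- The common neighbours form a connected commuting graph. -/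
theorem common_connected (S : Fi23Setup D) {a e : G} (ha : a ∈ D) (he : e ∈ D) (hae : ¬ Commute a e)
    {P : G → Prop} (hP : ∀ q ∈ common D a e, ∀ r ∈ common D a e, Commute q r → P q → P r)
    {q₀ : G} (hq₀ : q₀ ∈ common D a e) (h₀ : P q₀) : ∀ q ∈ common D a e, P q := by
  by_contra hc
  rw [not_forall] at hc
  obtain ⟨q, hq⟩ := hc
  rw [Classical.not_imp] at hq
  set C := {x | x ∈ common D a e ∧ P x} with hCdef
  set C' := {x | x ∈ common D a e ∧ ¬ P x} with hC'def
  have h1 := closed_card S ha he hae (C := C) (fun x hx => hx.1) ⟨q₀, hq₀, h₀⟩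
    fun x hx r hr hxr => ⟨hr, hP x hx.1 r hr hxr hx.2⟩
  have h2 := closed_card S ha he hae (C := C') (fun x hx => hx.1) ⟨q, hq⟩
    fun x hx r hr hxr => ⟨hr, fun h => hx.2 (hP r hr x hx.1 hxr.symm h)⟩
  have h3 := (common_bounds S ha he hae).2
  have h4 : C ∪ C' = common D a e := by
    ext x
    simp only [hCdef, hC'def, Set.mem_union, Set.mem_ofPred_eq]
    tauto
  have h5 : Disjoint C C' := Set.disjoint_left.2 fun x hx hx' => hx'.2 hx.2
  rw [← h4, Set.ncard_union_eq h5 (Set.toFinite _) (Set.toFinite _)] at h3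
  omega

/-- Every neighbour of `a` commutes with a common neighbour of `a` and `e`. -/
theorem exists_common_commute (S : Fi23Setup D) {a e p : G} (ha : a ∈ D) (he : e ∈ D)
    (hae : ¬ Commute a e) (hp : p ∈ adj D a) : ∃ y ∈ common D a e, Commute y p := by
  by_contra hc
  have hc' : ∀ y ∈ common D a e, ¬ Commute y p := fun y hy h => hc ⟨y, hy, h⟩
  have hp0 : p ∉ common D a e := fun h => hc' p h (Commute.refl p)
  set K := (fun q => q * p * q) '' common D a e with hKdef
  have hD := S.cls.1
  have hinj : Set.InjOn (fun q => q * p * q) (common D a e) := by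
    intro q hq r hr h
    simp only [braid hD hq.1.1 hp.1 (hc' q hq), braid hD hr.1.1 hp.1 (hc' r hr)] at h
    exact mul_left_cancel (mul_right_cancel h)
  have hkey : ∀ q ∈ common D a e, q * p * q ∈ adj D a ∧ ∀ r ∈ common D a e, ¬ Commute (q * p * q) r := by
    intro q hq
    refine ⟨⟨Cfsg.Agent.ThreeTrans.conj_mem hD S.grp.2.1 hq.1.1 hp.1, fun h => hp.2.1 ?_,
      (hq.1.2.2.mul_right hp.2.2).mul_right hq.1.2.2⟩, fun r hr h => ?_⟩
    · calc p = q * (q * p * q) * q := by
            simp only [mul_assoc, mul_self_cancel hD hq.1.1, mul_self hD hq.1.1, mul_one]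
        _ = a := by rw [h]; exact conj_conj_of_commute hD hq.1.1 hq.1.2.2.symm
    · have hmem : q * r * q⁻¹ ∈ common D a e := by
        have h1 := common_conj S.grp.2.1 (y := e) (hq.1.2.2.symm : Commute q a)
        rw [show q * e * q⁻¹ = e by rw [← hq.2.2.2.eq, mul_inv_cancel_right]] at h1
        rw [h1]; exact ⟨r, hr, rfl⟩
      refine hc' _ hmem ?_
      have h1 := (h.map (MulAut.conj q).toMonoidHom).symm
      simp only [MulEquiv.coe_toMonoidHom, MulAut.conj_apply] at h1
      rwa [show q * (q * p * q) * q⁻¹ = p by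
        rw [inv_eq hD hq.1.1]
        simp only [mul_assoc, mul_self_cancel hD hq.1.1, mul_self hD hq.1.1, mul_one]] at h1
  obtain ⟨-, h⟩ := closed_bound S ha he hae subset_rfl (common_nonempty S ha he hae)
    (fun _ _ _ hr _ => hr) K (by rintro _ ⟨q, hq, rfl⟩; exact (hkey q hq).1)
    (by rintro _ ⟨q, hq, rfl⟩ r hr; exact (hkey q hq).2 r hr)
  rw [hKdef, Set.InjOn.ncard_image hinj] at h
  generalize ((common D a e).ncard : ℤ) = s at h
  nlinarith [sq_nonneg (8 * s - 2187)]

end Cfsg.Agent.FischerM23
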