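/-
The centraliser of a member of a group of type M(23).

Main results (namespace `Cfsg.Agent.FischerM23`):
* `Step`, `Good` : transports along commuting pairs and from a base member;
* `centralizer_eq_loc` : the centraliser of a member is its local group.
-/
import Cfsg.Agent.Lib.FischerM23.Graph

set_option autoImplicit false

namespace Cfsg.Agent.FischerM23

open Cfsg.Agent.ThreeTrans Cfsg.Agent.ThreeTransSU
open Cfsg.Agent.FischerM22 (adj_symm adj_comm adj_of_not_commute conj_eq_self_of_loc Tr Step step_conj_eq step_adj step_mul_right Good good_of_step)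

variable {G : Type*} [Group G] [Finite G] {D : Set G}

theorem loc_map (S : Fi23Setup D) (g a : G) :
    (Loc D a).map (MulAut.conj g).toMonoidHom = Loc D (g * a * g⁻¹) := by
  have h := MonoidHom.map_closure (MulAut.conj g).toMonoidHom (adj D a)
  rw [Loc, h, Loc, adj_conj_image S.grp.2.1]
  rfl

/-- Two common neighbours of a commuting pair are joined by a third one. -/
theorem common_diameter (S : Fi23Setup D) {x x' y y' : G} (hx : x ∈ D) (hx' : x' ∈ adj D x)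
    (hy : y ∈ common D x x') (hy' : y' ∈ common D x x') (hyy : ¬ Commute y y') :
    ∃ z ∈ common D x x', Commute y z ∧ Commute z y' := by
  obtain ⟨z, ⟨hz, hzy⟩, hzy'⟩ : (adj D x ∩ adj D x' ∩ adj D y ∩ adj D y').Nonempty := by
    rw [← Set.ncard_pos (Set.toFinite _), far_quad_ncard S hx hx' hy hy' hyy]
    norm_num
  exact ⟨z, hz, hzy.2.2, hzy'.2.2.symm⟩

theorem conj_mem_loc (S : Fi23Setup D) {x x' g k : G} (hg : g * x * g⁻¹ = x') (hk : k ∈ Loc D x) :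
    g * k * g⁻¹ ∈ Loc D x' := by
  rw [← hg, ← loc_map S g x]
  exact ⟨k, hk, rfl⟩

theorem inv_conj_mem_loc (S : Fi23Setup D) {x x' g k : G} (hg : g * x * g⁻¹ = x') (hk : k ∈ Loc D x') :
    g⁻¹ * k * g ∈ Loc D x := by
  have := conj_mem_loc S (g := g⁻¹) (x := x') (x' := x) (by rw [← hg]; group) hk
  simpa using this

theorem exists_tr_via (S : Fi23Setup D) {y x x' : G} (hy : y ∈ D) (hx : x ∈ adj D y) (hx' : x' ∈ adj D y)
    (hne : x ≠ x') (hxx : Commute x x') : ∃ t ∈ Loc D y, t * x * t⁻¹ = x' := by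
  obtain ⟨y', hy'⟩ : (adj D y ∩ adj D x ∩ adj D x').Nonempty := by
    rw [← Set.ncard_pos (Set.toFinite _), triple_ncard S hy hx hx' hne hxx]
    norm_num
  obtain ⟨r, hr, -, h⟩ := exists_transport S hy hx hx' hy'.1.1 hy'.1.2.2.2 hy'.2.2.2
    hy'.1.2.2.1.symm hy'.2.2.1.symm
  exact ⟨r, hr, h⟩

theorem exists_tr (S : Fi23Setup D) {x x' : G} (hx : x ∈ D) (hx' : x' ∈ adj D x) : ∃ g, Tr D x x' g := by
  obtain ⟨y, hy⟩ : (adj D x ∩ adj D x').Nonempty := by
    rw [← Set.ncard_pos (Set.toFinite _), common_ncard S hx hx']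
    norm_num
  obtain ⟨t, ht, h⟩ := exists_tr_via S hy.1.1 (adj_symm hx hy.1) (adj_symm hx'.1 hy.2) hx'.2.1.symm hx'.2.2
  exact ⟨t, h, y, hy, ht⟩

theorem tr_unique (S : Fi23Setup D) {x x' g g' : G} (hx : x ∈ D) (hx' : x' ∈ adj D x)
    (hg : Tr D x x' g) (hg' : Tr D x x' g') : g⁻¹ * g' ∈ Loc D x := by
  obtain ⟨hgx, y, hy, hgy⟩ := hg
  obtain ⟨hgx', y', hy', hgy'⟩ := hg'
  let P : G → Prop := fun z => ∀ h ∈ Loc D z, h * x * h⁻¹ = x' → g⁻¹ * h ∈ Loc D x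
  have fix : ∀ {z h₁ h₂ : G}, z ∈ common D x x' → h₁ ∈ Loc D z → h₂ ∈ Loc D z → h₁ * x * h₁⁻¹ = x' →
      h₂ * x * h₂⁻¹ = x' → h₁⁻¹ * h₂ ∈ Loc D x := by
    intro z h₁ h₂ hz m1 m2 e1 e2
    refine stab_edge S hz.1.1 (adj_symm hx hz.1) (mul_mem (inv_mem m1) m2) ?_
    show h₁⁻¹ * h₂ * x = x * (h₁⁻¹ * h₂)
    calc h₁⁻¹ * h₂ * x = h₁⁻¹ * (h₂ * x * h₂⁻¹) * h₂ := by group
      _ = h₁⁻¹ * (h₁ * x * h₁⁻¹) * h₂ := by rw [e1, e2]
      _ = x * (h₁⁻¹ * h₂) := by group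
  have step : ∀ z₁ ∈ common D x x', ∀ z₂ ∈ common D x x', Commute z₁ z₂ → P z₁ → P z₂ := by
    intro z₁ h1 z₂ h2 hc hP
    by_cases e : z₁ = z₂
    · exact e ▸ hP
    have hz1 := h1.1.1
    obtain ⟨r, hr, hrz, hre⟩ := exists_transport S hz1 (adj_symm hx h1.1) (adj_symm hx'.1 h1.2)
      (show z₂ ∈ adj D z₁ from ⟨h2.1.1, fun e' => e e'.symm, hc⟩) h2.1.2.2 h2.2.2.2
      h2.1.2.1.symm h2.2.2.1.symm
    intro h hh hhx
    have hr2 : r ∈ Loc D z₂ := stab_edge S hz1 ⟨h2.1.1, fun e' => e e'.symm, hc⟩ hr hrz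
    have := mul_mem (hP r hr hre) (fix h2 hr2 hh hre hhx)
    rwa [show g⁻¹ * r * (r⁻¹ * h) = g⁻¹ * h by group] at this
  have base : P y := fun h hh hhx => fix hy hgy hh hgx hhx
  have hy'P : P y' := by
    by_cases hc : Commute y y'
    · exact step y hy y' hy' hc base
    obtain ⟨z, hz, c1, c2⟩ := common_diameter S hx hx' hy hy' hc
    exact step z hz y' hy' c2 (step y hy z hz c1 base)
  exact hy'P g' hgy' hgx'

theorem exists_step (S : Fi23Setup D) {x x' : G} (hx : x ∈ D) (hx' : x' ∈ D) (hc : Commute x x') :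
    ∃ g, Step D x x' g := by
  by_cases e : x' = x
  · exact ⟨1, Or.inl ⟨e, one_mem _⟩⟩
  have ha : x' ∈ adj D x := ⟨hx', e, hc⟩
  obtain ⟨t, ht⟩ := exists_tr S hx ha
  exact ⟨t * 1, Or.inr ⟨ha, t, ht, 1, one_mem _, rfl⟩⟩

theorem step_unique (S : Fi23Setup D) {x x' g g' : G} (hx : x ∈ D) (hg : Step D x x' g)
    (hg' : Step D x x' g') : g⁻¹ * g' ∈ Loc D x := by
  rcases hg with ⟨e, hk⟩ | ⟨ha, t, ht, k, hk, rfl⟩ <;>
    rcases hg' with ⟨e', hk'⟩ | ⟨ha', t', ht', k', hk', rfl⟩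
  · exact mul_mem (inv_mem hk) hk'
  · exact absurd e ha'.2.1
  · exact absurd e' ha.2.1
  · rw [show (t * k)⁻¹ * (t' * k') = k⁻¹ * (t⁻¹ * t') * k' by group]
    exact mul_mem (mul_mem (inv_mem hk) (tr_unique S hx ha ht ht')) hk'

theorem step_mul_left (S : Fi23Setup D) {x x' g k : G} (hg : Step D x x' g) (hk : k ∈ Loc D x') :
    Step D x x' (k * g) := by
  rw [show k * g = g * (g⁻¹ * k * g) by group]
  exact step_mul_right hg (inv_conj_mem_loc S (step_conj_eq hg) hk)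

theorem step_symm (S : Fi23Setup D) {x x' g : G} (hx : x ∈ D) (hg : Step D x x' g) : Step D x' x g⁻¹ := by
  rcases hg with ⟨rfl, hk⟩ | ⟨ha, t, ⟨ht, y, hy, hty⟩, k, hk, rfl⟩
  · exact Or.inl ⟨rfl, inv_mem hk⟩
  rw [mul_inv_rev]
  refine step_mul_left S (Or.inr ⟨adj_symm hx ha, t⁻¹, ⟨?_, y, ⟨hy.2, hy.1⟩, inv_mem hty⟩, 1,
    one_mem _, (mul_one _).symm⟩) (inv_mem hk)
  rw [← ht]; group

theorem step_comp (S : Fi23Setup D) {x x' x'' g g' : G} (hx : x ∈ D) (hxx : Commute x x'')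
    (hg : Step D x x' g) (hg' : Step D x' x'' g') : Step D x x'' (g' * g) := by
  rcases step_adj hg with e1 | a1
  · subst e1
    have hk : g ∈ Loc D x' := hg.elim (fun h => h.2) fun h => absurd rfl h.1.2.1
    exact step_mul_right hg' hk
  rcases step_adj hg' with e2 | a2
  · subst e2
    have hk : g' ∈ Loc D x'' := hg'.elim (fun h => h.2) fun h => absurd rfl h.1.2.1
    exact step_mul_left S hg hk
  by_cases e3 : x'' = x
  · subst e3
    refine Or.inl ⟨rfl, ?_⟩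
    have := step_unique S hx (step_symm S a1.1 hg') hg
    rwa [inv_inv] at this
  obtain ⟨y, hy⟩ : (adj D x ∩ adj D x' ∩ adj D x'').Nonempty := by
    rw [← Set.ncard_pos (Set.toFinite _),
      triple_ncard S hx a1 ⟨a2.1, e3, hxx⟩ a2.2.1.symm a2.2.2]
    norm_num
  have hyD := hy.1.1.1
  obtain ⟨t1, m1, h1⟩ := exists_tr_via S hyD (adj_symm hx hy.1.1) (adj_symm a1.1 hy.1.2) a1.2.1.symm a1.2.2
  obtain ⟨t2, m2, h2⟩ := exists_tr_via S hyD (adj_symm a1.1 hy.1.2) (adj_symm a2.1 hy.2) a2.2.1.symm a2.2.2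
  have k1 := step_unique S hx (Or.inr ⟨a1, t1, ⟨h1, y, hy.1, m1⟩, 1, one_mem _, rfl⟩) hg
  have k2 := step_unique S a1.1 (Or.inr ⟨a2, t2, ⟨h2, y, ⟨hy.1.2, hy.2⟩, m2⟩, 1, one_mem _, rfl⟩) hg'
  refine Or.inr ⟨⟨a2.1, e3, hxx⟩, t2 * t1, ⟨?_, y, ⟨hy.1.1, hy.2⟩, mul_mem m2 m1⟩,
    (t1⁻¹ * ((t2 * 1)⁻¹ * g') * t1) * ((t1 * 1)⁻¹ * g), mul_mem (inv_conj_mem_loc S h1 k2) k1, by group⟩
  rw [← h2, ← h1]; group

theorem step_conj (S : Fi23Setup D) {x x' g : G} (h : G) (hg : Step D x x' g) :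
    Step D (h * x * h⁻¹) (h * x' * h⁻¹) (h * g * h⁻¹) := by
  rcases hg with ⟨rfl, hk⟩ | ⟨ha, t, ⟨ht, y, hy, hty⟩, k, hk, rfl⟩
  · exact Or.inl ⟨rfl, conj_mem_loc S rfl hk⟩
  refine Or.inr ⟨(conj_adj S.grp.2.1 h x (h * x' * h⁻¹)).2 (by simpa [mul_assoc] using ha), h * t * h⁻¹,
    ⟨by rw [← ht]; group, h * y * h⁻¹,
      ⟨(conj_adj S.grp.2.1 h x (h * y * h⁻¹)).2 (by simpa [mul_assoc] using hy.1),
        (conj_adj S.grp.2.1 h x' (h * y * h⁻¹)).2 (by simpa [mul_assoc] using hy.2)⟩,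
      conj_mem_loc S rfl hty⟩, h * k * h⁻¹, conj_mem_loc S rfl hk, by group⟩

theorem step_of_good (S : Fi23Setup D) {a x g : G} (ha : a ∈ D) (hc : Commute a x) (hg : Good D a x g) :
    Step D a x g := by
  obtain ⟨b, -, -, -, g1, g2, h1, h2, rfl⟩ := hg
  exact step_comp S ha hc h1 h2

theorem good_repr (S : Fi23Setup D) {a x g : G} (ha : a ∈ D) (hx : x ∈ D) (hg : Good D a x g) {b : G}
    (hb : b ∈ D) (hab : Commute a b) (hbx : Commute b x) :
    ∃ g1 g2, Step D a b g1 ∧ Step D b x g2 ∧ g = g2 * g1 := by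
  by_cases hc : Commute a x
  · obtain ⟨g2, h2⟩ := exists_step S hb hx hbx
    exact ⟨g2⁻¹ * g, g2, step_comp S ha hab (step_of_good S ha hc hg) (step_symm S hb h2), h2,
      (mul_inv_cancel_left g2 g).symm⟩
  obtain ⟨b₀, hb₀, c1, c2, rep⟩ := hg
  have mem : ∀ {z}, z ∈ D → Commute a z → Commute z x → z ∈ common D a x := fun hz h1 h2 =>
    ⟨adj_of_not_commute hc hz h1.symm h2, adj_of_not_commute (fun h => hc h.symm) hz h2 h1.symm⟩
  refine common_connected S ha hx hc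
    (P := fun z => ∃ g1 g2, Step D a z g1 ∧ Step D z x g2 ∧ g = g2 * g1) ?_ (mem hb₀ c1 c2) rep b
    (mem hb hab hbx)
  intro z hz z' hz' hzz ⟨g1, g2, h1, h2, e⟩
  obtain ⟨h, hh⟩ := exists_step S hz.1.1 hz'.1.1 hzz
  exact ⟨h * g1, g2 * h⁻¹, step_comp S ha hz'.1.2.2 h1 hh,
    step_comp S hz'.1.1 hz'.2.2.2.symm (step_symm S hz.1.1 hh) h2, by rw [e]; group⟩

theorem good_step (S : Fi23Setup D) {a x x' g s : G} (ha : a ∈ D) (hx : x ∈ D) (hx' : x' ∈ D)
    (hc : Commute x x') (hs : Step D x x' s) (hg : Good D a x g) : Good D a x' (s * g) := by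
  obtain ⟨b, hb, hab, hbx, hbx'⟩ : ∃ b ∈ D, Commute a b ∧ Commute b x ∧ Commute b x' := by
    by_cases c1 : Commute a x
    · exact ⟨x, hx, c1, Commute.refl x, hc⟩
    by_cases c2 : Commute a x'
    · exact ⟨x', hx', c2, hc.symm, Commute.refl x'⟩
    by_cases e : x' = x
    · obtain ⟨b, hb⟩ := common_nonempty S ha hx c1
      exact ⟨b, hb.1.1, hb.1.2.2, hb.2.2.2.symm, e ▸ hb.2.2.2.symm⟩
    obtain ⟨b, hb, hbx'⟩ := exists_common_commute S hx ha (fun h => c1 h.symm) (p := x') ⟨hx', e, hc⟩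
    exact ⟨b, hb.1.1, hb.2.2.2, hb.1.2.2.symm, hbx'⟩
  obtain ⟨g1, g2, h1, h2, rfl⟩ := good_repr S ha hx hg hb hab hbx
  exact ⟨b, hb, hab, hbx', g1, s * g2, h1, step_comp S hb hbx' h2 hs, (mul_assoc _ _ _).symm⟩

theorem good_gen (S : Fi23Setup D) {a d : G} (ha : a ∈ D) (hd : d ∈ D) : Good D a (d * a * d⁻¹) d := by
  have hD := S.cls.1
  by_cases hc : Commute d a
  · rw [hc.eq, mul_inv_cancel_right]
    refine good_of_step ha (Commute.refl a) (Or.inl ⟨rfl, ?_⟩)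
    by_cases e : d = a
    · rw [e]; exact mem_loc_self S ha
    · exact Subgroup.subset_closure ⟨hd, e, hc.symm⟩
  obtain ⟨y, hy⟩ := common_nonempty S ha hd fun h => hc h.symm
  have hay := adj_symm ha hy.1
  have hdy := adj_symm hd hy.2
  have hyD := hy.1.1
  have he : d * a * d⁻¹ ∈ adj D y := by
    have := conj_mem_adj_loc S (mem_loc_of_adj hdy) hay
    exact this
  set e := d * a * d⁻¹ with hedef
  have hae : ¬ Commute a e := by
    rw [hedef, inv_eq hD hd]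
    intro h
    have b2 := braid hD hd ha hc
    rw [b2] at h
    refine hc (Commute.symm ?_)
    have h1 : Commute a (a * d * a) := h
    have h2 := h1.eq
    simp only [mul_assoc, mul_self_cancel hD ha, mul_self hD ha, mul_one] at h2
    exact h2.symm
  obtain ⟨b, hb⟩ : (adj D y ∩ adj D a ∩ adj D e).Nonempty := by
    rw [← Set.ncard_pos (Set.toFinite _), far_triple_ncard S hyD hay he hae]
    norm_num
  have hbe : e ∈ adj D b := adj_symm he.1 hb.2
  obtain ⟨t1, m1, e1⟩ := exists_tr_via S hyD hay hb.1.1 hb.1.2.2.1.symm hb.1.2.2.2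
  obtain ⟨t2, m2, e2⟩ := exists_tr_via S hyD hb.1.1 he hb.2.2.1 hb.2.2.2.symm
  have hk : (t2 * t1)⁻¹ * d ∈ Loc D a := by
    refine stab_edge S hyD hay (mul_mem (inv_mem (mul_mem m2 m1)) (Subgroup.subset_closure hdy)) ?_
    show (t2 * t1)⁻¹ * d * a = a * ((t2 * t1)⁻¹ * d)
    have e3 : t2 * t1 * a * (t2 * t1)⁻¹ = e := by rw [← e2, ← e1]; group
    calc (t2 * t1)⁻¹ * d * a = (t2 * t1)⁻¹ * e * d := by rw [hedef]; group
      _ = a * ((t2 * t1)⁻¹ * d) := by rw [← e3]; group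
  exact ⟨b, hb.1.1.1, hb.1.2.2.2, hbe.2.2, t1 * ((t2 * t1)⁻¹ * d), t2,
    Or.inr ⟨hb.1.2, t1, ⟨e1, y, ⟨hy.1, adj_symm hyD hb.1.1⟩, m1⟩, _, hk, rfl⟩,
    Or.inr ⟨hbe, t2, ⟨e2, y, ⟨adj_symm hyD hb.1.1, adj_symm hyD he⟩, m2⟩, 1, one_mem _, (mul_one _).symm⟩,
    by group⟩

theorem good_mul (S : Fi23Setup D) {a x g d : G} (ha : a ∈ D) (hx : x ∈ D) (hd : d ∈ D)
    (hg : Good D a x g) : Good D a (d * x * d⁻¹) (d * g) := by
  obtain ⟨b, hb, hab, hbx, g1, g2, h1, h2, rfl⟩ := hg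
  have c1 : Commute (d * a * d⁻¹) (d * b * d⁻¹) := hab.map (MulAut.conj d).toMonoidHom
  have c2 : Commute (d * b * d⁻¹) (d * x * d⁻¹) := hbx.map (MulAut.conj d).toMonoidHom
  have s1 := good_step S ha (S.conj_mem d ha) (S.conj_mem d hb) c1 (step_conj S d h1) (good_gen S ha hd)
  have s2 := good_step S ha (S.conj_mem d hb) (S.conj_mem d hx) c2 (step_conj S d h2) s1
  rwa [show d * g2 * d⁻¹ * (d * g1 * d⁻¹ * d) = d * (g2 * g1) by group] at s2

/-- The centraliser of a member is generated by its neighbours. -/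
theorem centralizer_eq_loc (S : Fi23Setup D) {a : G} (ha : a ∈ D) :
    Subgroup.centralizer ({a} : Set G) = Loc D a := by
  refine le_antisymm (fun g hg => ?_) fun g hg => ?_
  · have all : ∀ h, Good D a (h * a * h⁻¹) h := by
      intro h
      have hh : h ∈ Submonoid.closure D := by
        have : h ∈ (Subgroup.closure D).toSubmonoid := by rw [S.cls.2.2]; trivial
        rw [Subgroup.closure_toSubmonoid_of_finite] at this
        exact this
      induction hh using Submonoid.closure_induction_left with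
      | one => simpa using good_of_step ha (Commute.refl a) (Or.inl ⟨rfl, one_mem (Loc D a)⟩)
      | mul_left d hd h' _ ih =>
        have := good_mul S ha (S.conj_mem h' ha) hd ih
        rwa [show d * (h' * a * h'⁻¹) * d⁻¹ = d * h' * a * (d * h')⁻¹ by group] at this
    have h1 := all g
    rw [show g * a * g⁻¹ = a by
      rw [Subgroup.mem_centralizer_singleton_iff.1 hg, mul_inv_cancel_right]] at h1
    exact (step_of_good S ha (Commute.refl a) h1).elim (fun h => h.2) fun h => absurd rfl h.1.2.1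
  · exact Subgroup.mem_centralizer_singleton_iff.2 (commute_of_mem_Loc hg)

end Cfsg.Agent.FischerM23
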