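/-
The order of a group of type M(23), simplicity and width.

Main results (namespace `Cfsg.Agent.FischerM23`):
* `common_card` : two non-commuting members have 351 common neighbours;
* `class_ncard`, `group_card` : `|D| = 31671`, `|G| = 4089470473293004800`;
* `isSimpleGroup`; `width_eq` : the width is 23.
-/
import Cfsg.Agent.Lib.FischerM23.Monodromy
import Cfsg.Agent.Lib.FischerM22.Width
import Cfsg.Agent.S0286

set_option autoImplicit false

namespace Cfsg.Agent.FischerM23

open Cfsg.Agent.Unitary Cfsg.Agent.U62Cover Cfsg.Agent.ThreeTrans Cfsg.Agent.ThreeTransSU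
open Cfsg.Agent.FischerM22 (adj_symm adj_comm sum_card_filter card_orbit_mul card_centralizer_mul_class)

theorem proj_refl_dvd_seven {X : Type*} [Group X] {μ c : ZMod 3} (hc : c ≠ 0)
    (h : Cfsg.IsProjReflectionGroupModThree X 7 μ c) : 19683 * 13 ∣ Nat.card X := by
  obtain ⟨Q, hQ, -, ⟨e⟩⟩ := h
  have hn : 5 ≤ Fintype.card (Fin 7) := by simp
  have hG := good_three hQ
  rw [Nat.card_congr e.toEquiv]
  set R := Cfsg.reflectionSubgroup (⇑Q) c with hR
  have hZ : IsPGroup 2 ↥(Subgroup.center ↥R) := fun z => by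
    refine ⟨2, Subtype.ext (Subtype.ext ?_)⟩
    set g : Orth.IsoGrp Q := ((z : ↥R) : Orth.IsoGrp Q) with hg
    have h2 : g * g ∈ Cfsg.Omega (ZMod 3) ⇑Q := by
      rw [Orth.mem_omega_iff hG, Orth.dick_mul hG, Orth.spin_mul hG]
      exact ⟨by rcases Orth.dick_eq_or g with h | h <;> simp [h],
        by rcases Orth.spin_eq_or hG g with h | h <;> simp [h]⟩
    have hcen : (⟨g * g, h2⟩ : ↥(Cfsg.Omega (ZMod 3) ⇑Q)) ∈ Subgroup.center _ :=
      Subgroup.mem_center_iff.2 fun w => by
        have hw := congrArg Subtype.val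
          (Subgroup.mem_center_iff.1 z.2 ⟨(w : Orth.IsoGrp Q), omega_le_reflSub hQ hn hc w.2⟩)
        change (w : Orth.IsoGrp Q) * g = g * w at hw
        exact Subtype.ext (show (w : Orth.IsoGrp Q) * (g * g) = g * g * w by
          rw [← mul_assoc, hw, mul_assoc, hw, mul_assoc])
    obtain ⟨a, ha, hga⟩ := (Orth.mem_center_omega_iff hQ (by simp)
      (Orth.omega_eq_eichGen hG (by simp) (.inr hn)).ge _).1 hcen
    show g ^ 2 ^ 2 = 1
    rw [show g ^ 2 ^ 2 = (g * g) * (g * g) by rw [show (2 ^ 2 : ℕ) = 4 from rfl]; simp [pow_succ, mul_assoc]]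
    refine Orth.ext_ap fun x => ?_
    rw [Orth.ap_mul, hga, hga, smul_smul, ha, one_smul, Orth.ap_one]
  obtain ⟨k, hk⟩ := hZ.exists_card_eq
  have hO : Nat.card (Orth.IsoGrp Q) = Nat.card (↥R ⧸ Subgroup.center ↥R) * 2 ^ (k + 1) := by
    rw [← Subgroup.card_mul_index R, hR, reflSub_index hQ hn hc, ← hR,
      Subgroup.card_eq_card_quotient_mul_card_subgroup (Subgroup.center ↥R), hk, pow_succ, mul_assoc]
  have fin : ∀ n, Nat.Coprime n 2 → n ∣ Nat.card (Orth.IsoGrp Q) →
      n ∣ Nat.card (↥R ⧸ Subgroup.center ↥R) := fun n hn2 hd => by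
    rw [hO] at hd
    exact (Nat.Coprime.pow_right (k + 1) hn2).dvd_of_dvd_mul_right hd
  obtain ⟨-, c', f, hc', hf⟩ := Forms.classify_odd Q hQ (m := 3) (by simp)
  refine fin _ (by decide +kernel) ?_
  rw [← Nat.card_congr ((Forms.isometryGroupEquiv (Cfsg.quadFormOdd 3 (ZMod 3))).trans
    ((Forms.preservingFunCongr (Cfsg.quadFormOdd 3 (ZMod 3)) (⇑Q) f c' hc' fun v => by
      rw [hf, Forms.qfOdd_apply]).trans (Forms.isometryGroupEquiv (⇑Q)).symm)).toEquiv,
    S0286.result (ZMod.card 3) (by decide) 3]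
  simp [Finset.prod_range_succ]

variable {G : Type*} [Group G] [Finite G] {D : Set G}

/-- The non-neighbours of `x` among the neighbours of `a`. -/
theorem far_card (S : Fi23Setup D) {a x : G} (ha : a ∈ D) (hx : x ∈ adj D a) :
    {y | y ∈ adj D a ∧ ¬ Commute x y}.ncard = 2816 := by
  have e : {y | y ∈ adj D a ∧ ¬ Commute x y} = adj D a \ insert x (adj D a ∩ adj D x) := by
    ext y
    simp only [Set.mem_ofPred_eq, Set.mem_sdiff, Set.mem_insert_iff, Set.mem_inter_iff]
    refine ⟨fun h => ⟨h.1, ?_⟩, fun h => ⟨h.1, fun hc => h.2 ?_⟩⟩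
    · rintro (rfl | h')
      exacts [h.2 (Commute.refl _), h.2 h'.2.2.2]
    · by_cases e : y = x
      · exact Or.inl e
      · exact Or.inr ⟨h.1, h.1.1, e, hc⟩
  rw [e, Set.ncard_sdiff (Set.insert_subset hx Set.inter_subset_left),
    Set.ncard_insert_of_notMem fun h => h.2.2.1 rfl, adj_ncard S ha, common_ncard S ha hx]

theorem pairs_card (S : Fi23Setup D) {q : G} (hq : q ∈ D) :
    {p : G × G | p.1 ∈ adj D q ∧ p.2 ∈ adj D q ∧ ¬ Commute p.1 p.2}.ncard = 9884160 := by
  classical
  have := Fintype.ofFinite G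
  have e : {p : G × G | p.1 ∈ adj D q ∧ p.2 ∈ adj D q ∧ ¬ Commute p.1 p.2}
      = ↑(((adj D q).toFinset ×ˢ (adj D q).toFinset).filter fun p => ¬ Commute p.1 p.2) := by
    ext p; simp [and_assoc]
  have hf : ∀ x ∈ (adj D q).toFinset,
      ((adj D q).toFinset.filter fun y => ¬ Commute x y).card = 2816 := fun x hx => by
    rw [← Set.ncard_coe_finset, ← far_card S hq (Set.mem_toFinset.1 hx)]
    congr 1
    ext y; simp
  rw [e, Set.ncard_coe_finset, Finset.card_filter, Finset.sum_product]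
  simp only [← Finset.card_filter]
  rw [Finset.sum_congr rfl hf, Finset.sum_const, ← Set.ncard_eq_toFinset_card', adj_ncard S hq]
  rfl

/-- The stabiliser in the local group of `q` of two non-commuting neighbours. -/
theorem two_point_stab (S : Fi23Setup D) {q d c : G} (hq : q ∈ D) (hd : d ∈ adj D q) (hc : c ∈ adj D q)
    (hdc : ¬ Commute d c) :
    Nat.card ↥(Loc D q ⊓ Subgroup.centralizer {d} ⊓ Subgroup.centralizer {c}) = 13063680 := by
  have h := card_orbit_mul (Loc D q) d c
  have e : {p : G × G | ∃ h ∈ Loc D q, h * d * h⁻¹ = p.1 ∧ h * c * h⁻¹ = p.2}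
      = {p : G × G | p.1 ∈ adj D q ∧ p.2 ∈ adj D q ∧ ¬ Commute p.1 p.2} := by
    ext ⟨u, w⟩
    constructor
    · rintro ⟨h, hh, rfl, rfl⟩
      refine ⟨conj_mem_adj_loc S hh hd, conj_mem_adj_loc S hh hc, fun hcom => hdc ?_⟩
      exact Commute.of_map (f := (MulAut.conj h).toMonoidHom) (MulAut.conj h).injective hcom
    · rintro ⟨hu, hw, hn⟩
      exact trans_noncommuting S hq hd hc hdc hu hw hn
  rw [e, pairs_card S hq, loc_card S hq] at h
  omega

/-- The double count between neighbours and non-neighbours. -/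
theorem far_mul_common (S : Fi23Setup D) {a e : G} (ha : a ∈ D) (he : e ∈ D) (hae : ¬ Commute a e) :
    {y | y ∈ D ∧ ¬ Commute a y}.ncard * (common D a e).ncard = 9884160 := by
  classical
  have := Fintype.ofFinite G
  set A : Finset G := (adj D a).toFinset with hA
  set B : Finset G := {y | y ∈ D ∧ ¬ Commute a y}.toFinset with hB
  have h1 : ∀ x ∈ A, (B.filter fun y => y ∈ adj D x).card = 2816 := fun x hx => by
    have hx' : x ∈ adj D a := Set.mem_toFinset.1 hx
    rw [← Set.ncard_coe_finset, ← far_card S hx'.1 (adj_symm ha hx')]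
    congr 1
    ext y
    simp only [hB, Finset.coe_filter, Set.mem_toFinset, Set.mem_ofPred_eq]
    exact ⟨fun h => ⟨h.2, h.1.2⟩, fun h => ⟨⟨h.1.1, h.2⟩, h.1⟩⟩
  have h2 : ∀ y ∈ B, (A.filter fun x => y ∈ adj D x).card = (common D a e).ncard := fun y hy => by
    obtain ⟨hyD, hay⟩ := Set.mem_toFinset.1 hy
    obtain ⟨g, hga, hg⟩ := centralizer_transitive S ha he hyD hae hay
    rw [← ncard_common S.grp.2.1 ⟨g, hga, hg⟩, ← Set.ncard_coe_finset]
    congr 1
    ext x
    simp only [hA, Finset.coe_filter, Set.mem_toFinset, Set.mem_ofPred_eq]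
    exact and_congr_right fun hx => adj_comm hx.1 hyD
  have h := sum_card_filter A B fun x y => y ∈ adj D x
  rw [Finset.sum_congr rfl h1, Finset.sum_congr rfl h2, Finset.sum_const, Finset.sum_const,
    smul_eq_mul, smul_eq_mul, hA, ← Set.ncard_eq_toFinset_card', adj_ncard S ha, hB,
    ← Set.ncard_eq_toFinset_card'] at h
  exact h.symm

/-- The group generated by the common neighbours moves `q` to every common neighbour. -/
theorem common_orbit (S : Fi23Setup D) {d c : G} (hd : d ∈ D) (hc : c ∈ D) (hdc : ¬ Commute d c) {q : G}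
    (hq : q ∈ common D d c) :
    ∀ r ∈ common D d c, ∃ g ∈ Subgroup.closure (common D d c), g * q * g⁻¹ = r := by
  have hD := S.cls.1
  refine common_connected S hd hc hdc (P := fun r => ∃ g ∈ Subgroup.closure (common D d c), g * q * g⁻¹ = r)
    ?_ hq ⟨1, one_mem _, by simp⟩
  intro x hx x' hx' _ ⟨g, hg, e⟩
  obtain ⟨z, hz, n1, n2⟩ : ∃ z ∈ common D d c, ¬ Commute z x ∧ ¬ Commute z x' := by
    by_contra hno
    have hsub : common D d c
        ⊆ insert x (common D d c ∩ adj D x) ∪ insert x' (common D d c ∩ adj D x') := by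
      intro z hz
      by_cases h1 : Commute z x
      · by_cases e : z = x
        · exact Or.inl (Or.inl e)
        · exact Or.inl (Or.inr ⟨hz, hz.1.1, e, h1.symm⟩)
      by_cases h2 : Commute z x'
      · by_cases e : z = x'
        · exact Or.inr (Or.inl e)
        · exact Or.inr (Or.inr ⟨hz, hz.1.1, e, h2.symm⟩)
      exact absurd ⟨z, hz, h1, h2⟩ hno
    have h3 := (Set.ncard_le_ncard hsub (Set.toFinite _)).trans
      ((Set.ncard_union_le _ _).trans (Nat.add_le_add (Set.ncard_insert_le _ _) (Set.ncard_insert_le _ _)))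
    rw [common_deg S hd hc hdc hx, common_deg S hd hc hdc hx'] at h3
    have := (common_bounds S hd hc hdc).1
    omega
  have cl : ∀ {s}, s ∈ common D d c → s ∈ Subgroup.closure (common D d c) :=
    fun h => Subgroup.subset_closure h
  refine ⟨(z * x') * (x * z) * g,
    mul_mem (mul_mem (mul_mem (cl hz) (cl hx')) (mul_mem (cl hx) (cl hz))) hg, ?_⟩
  have b1 := braid hD hz.1.1 hx.1.1 n1
  have b2 := braid hD hz.1.1 hx'.1.1 n2
  calc z * x' * (x * z) * g * q * (z * x' * (x * z) * g)⁻¹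
      = z * x' * (x * z) * (g * q * g⁻¹) * ((x * z)⁻¹ * (z * x')⁻¹) := by group
    _ = z * x' * (x * (z * x * z) * x) * (x' * z) := by
        rw [e, mul_inv_rev, mul_inv_rev, inv_eq hD hz.1.1, inv_eq hD hx.1.1, inv_eq hD hx'.1.1]
        simp only [mul_assoc]
    _ = z * x' * z * (x' * z) := by
        rw [b1]; simp only [mul_assoc, mul_self_cancel hD hx.1.1, mul_self hD hx.1.1, mul_one]
    _ = z * (x' * z * x') * z := by simp only [mul_assoc]
    _ = x' := by
        rw [← b2]; simp only [mul_assoc, mul_self_cancel hD hz.1.1, mul_self hD hz.1.1, mul_one]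

theorem closure_common_dvd (S : Fi23Setup D) {d c : G} (hd : d ∈ D) (hc : c ∈ D) (hdc : ¬ Commute d c) :
    Nat.card ↥(Subgroup.closure (common D d c)) ∣ (common D d c).ncard * 13063680 := by
  obtain ⟨q, hq⟩ := common_nonempty S hd hc hdc
  set L := Subgroup.closure (common D d c) with hL
  have hLd : L ≤ Subgroup.centralizer {d} :=
    (Subgroup.closure_le _).2 fun x hx => Subgroup.mem_centralizer_singleton_iff.2 hx.1.2.2.symm
  have hLc : L ≤ Subgroup.centralizer {c} :=
    (Subgroup.closure_le _).2 fun x hx => Subgroup.mem_centralizer_singleton_iff.2 hx.2.2.2.symm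
  have h := card_orbit_mul L q q
  have e : {p : G × G | ∃ h ∈ L, h * q * h⁻¹ = p.1 ∧ h * q * h⁻¹ = p.2}
      = (fun x : G => (x, x)) '' common D d c := by
    ext ⟨u, w⟩
    constructor
    · rintro ⟨g, hg, rfl, rfl⟩
      refine ⟨_, ?_, rfl⟩
      have hgd : Commute g d := Subgroup.mem_centralizer_singleton_iff.1 (hLd hg)
      have hgc : Commute g c := Subgroup.mem_centralizer_singleton_iff.1 (hLc hg)
      have h1 := common_conj S.grp.2.1 (y := c) hgd
      rw [show g * c * g⁻¹ = c by rw [hgc.eq, mul_inv_cancel_right]] at h1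
      rw [h1]; exact ⟨q, hq, rfl⟩
    · rintro ⟨x, hx, e'⟩
      obtain ⟨rfl, rfl⟩ := Prod.ext_iff.1 e'
      obtain ⟨g, hg, rfl⟩ := common_orbit S hd hc hdc hq x hx
      exact ⟨g, hg, rfl, rfl⟩
  rw [e, Set.ncard_image_of_injective _ fun x y h => congrArg Prod.fst h, inf_assoc, inf_idem] at h
  rw [h, ← two_point_stab S hq.1.1 (adj_symm hd hq.1) (adj_symm hc hq.2) hdc]
  refine mul_dvd_mul_left _ (Subgroup.card_dvd_of_le (le_inf (le_inf ?_ ?_) ?_))
  · rw [← centralizer_eq_loc S hq.1.1]; exact inf_le_right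
  · exact inf_le_left.trans hLd
  · exact inf_le_left.trans hLc

/-- Two non-commuting members have 351 common neighbours. -/
theorem common_card (S : Fi23Setup D) {a e : G} (ha : a ∈ D) (he : e ∈ D) (hae : ¬ Commute a e) :
    (common D a e).ncard = 351 := by
  suffices h0 : ∃ d ∈ D, ∃ c ∈ D, ¬ Commute d c ∧ (common D d c).ncard = 351 by
    obtain ⟨d, hd, c, hc, hdc, h⟩ := h0
    obtain ⟨g, rfl⟩ := class_conj S.cls hd ha
    have hc' := S.conj_mem g hc
    have hn : ¬ Commute (g * d * g⁻¹) (g * c * g⁻¹) := fun h' =>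
      hdc (Commute.of_map (f := (MulAut.conj g).toMonoidHom) (MulAut.conj g).injective h')
    obtain ⟨k, hk, hke⟩ := centralizer_transitive S ha hc' he hn hae
    rw [ncard_common S.grp.2.1 ⟨k, hk, hke⟩, common, adj_conj_image S.grp.2.1 g d, adj_conj_image S.grp.2.1 g c,
      ← Set.image_inter (fun u v h => mul_left_cancel (mul_right_cancel h)),
      Set.ncard_image_of_injective _ (fun u v h => mul_left_cancel (mul_right_cancel h))]
    exact h
  obtain ⟨-, d, hd, c, hc, hdc, -, c3, hc3, hR⟩ := S.type23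
  refine ⟨d, hd, c, hc, hdc, ?_⟩
  change Cfsg.IsProjReflectionGroupModThree (↥(Subgroup.closure (common D d c)) ⧸
    Subgroup.center ↥(Subgroup.closure (common D d c))) 7 (-c3) c3 at hR
  have hdvd : Nat.card (↥(Subgroup.closure (common D d c)) ⧸
      Subgroup.center ↥(Subgroup.closure (common D d c))) ∣ (common D d c).ncard * 13063680 :=
    (Subgroup.card_quotient_dvd_card _).trans (closure_common_dvd S hd hc hdc)
  have hmul := far_mul_common S hd hc hdc
  obtain ⟨h1, h2⟩ := common_bounds S hd hc hdc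
  generalize (common D d c).ncard = s at hdvd hmul h1 h2
  have hs : s ∣ 9884160 := Dvd.intro_left _ hmul
  obtain ⟨t, ht⟩ := (proj_refl_dvd_seven hc3 hR).trans hdvd
  have h351 : 351 ∣ s := by
    refine (Nat.Coprime.dvd_of_dvd_mul_right (by decide +kernel : Nat.Coprime 351 17920)) ?_
    exact ⟨t, by linarith [ht]⟩
  omega

theorem far_ncard (S : Fi23Setup D) {a : G} (ha : a ∈ D) : {y | y ∈ D ∧ ¬ Commute a y}.ncard = 28160 := by
  obtain ⟨e, he, hae⟩ := exists_not_commute S.cls S.two_members ha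
  have h := far_mul_common S ha he hae
  rw [common_card S ha he hae] at h
  omega

theorem class_ncard (S : Fi23Setup D) : D.ncard = 31671 := by
  obtain ⟨a, ha, -⟩ := S.two_members
  have e : D = insert a (adj D a ∪ {y | y ∈ D ∧ ¬ Commute a y}) := by
    ext y
    simp only [Set.mem_insert_iff, Set.mem_union, Set.mem_ofPred_eq]
    refine ⟨fun hy => ?_, ?_⟩
    · by_cases h1 : y = a
      · exact Or.inl h1
      by_cases h2 : Commute a y
      · exact Or.inr (Or.inl ⟨hy, h1, h2⟩)
      · exact Or.inr (Or.inr ⟨hy, h2⟩)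
    · rintro (rfl | h | h)
      exacts [ha, h.1, h.1]
  rw [e, Set.ncard_insert_of_notMem (by
      rintro (h | h)
      exacts [h.2.1 rfl, h.2 (Commute.refl a)]),
    Set.ncard_union_eq (Set.disjoint_left.2 fun y h h' => h'.2 h.2.2) (Set.toFinite _) (Set.toFinite _),
    adj_ncard S ha, far_ncard S ha]

theorem group_card (S : Fi23Setup D) : Nat.card G = 4089470473293004800 := by
  obtain ⟨a, ha, -⟩ := S.two_members
  rw [card_centralizer_mul_class S.cls ha, centralizer_eq_loc S ha, loc_card S ha, class_ncard S]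

theorem isSimpleGroup [Finite G] (S : Fi23Setup D) : IsSimpleGroup G := by
  obtain ⟨L, hL, hLn, -⟩ := exists_component S.cls S.two_members S.cores
  have htop : L = ⊤ := by
    rw [eq_top_iff, ← commutator_eq_top S]
    exact commutator_le_of_index_le_two L (index_le_two_of_connected S.cls S.two_members S.cores S.conn hL)
  have hs : IsSimpleGroup (↥L ⧸ Subgroup.center ↥L) := hL.2.2
  subst htop
  have hZ : Subgroup.center ↥(⊤ : Subgroup G) = ⊥ := by
    rw [eq_bot_iff]
    intro z hz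
    have h1 : (z : G) ∈ Subgroup.center G := Subgroup.mem_center_iff.2 fun g =>
      congrArg Subtype.val (Subgroup.mem_center_iff.1 hz ⟨g, Subgroup.mem_top g⟩)
    rw [S.type23.1, Subgroup.mem_bot] at h1
    exact Subgroup.mem_bot.2 (Subtype.ext h1)
  exact ((((QuotientGroup.quotientMulEquivOfEq hZ).trans QuotientGroup.quotientBot).trans
    Subgroup.topEquiv)).symm.isSimpleGroup

/-- Pairwise commuting members are at most 23. -/
theorem commuting_le (S : Fi23Setup D) {E : Set G} (hE : E ⊆ D)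
    (hc : ∀ a ∈ E, ∀ b ∈ E, Commute a b) : E.ncard ≤ 23 := by
  rcases E.eq_empty_or_nonempty with rfl | ⟨a, haE⟩
  · simp
  have ha := hE haE
  have hsub : E \ {a} ⊆ adj D a := fun y hy => ⟨hE hy.1, hy.2, hc a haE y hy.1⟩
  have h1 := FischerM22.commuting_le (S.localSetup ha) (E := qm D a '' (E \ {a}))
    (by rintro _ ⟨y, hy, rfl⟩; exact qm_mem (hsub hy))
    (by rintro _ ⟨y, hy, rfl⟩ _ ⟨z, hz, rfl⟩; exact (qm_comm S ha (hsub hy) (hsub hz)).2 (hc y hy.1 z hz.1))
  rw [qm_ncard S ha hsub, Set.ncard_sdiff_singleton_of_mem haE] at h1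
  omega

theorem exists_commuting (S : Fi23Setup D) :
    ∃ E : Set G, E ⊆ D ∧ E.Finite ∧ (∀ a ∈ E, ∀ b ∈ E, Commute a b) ∧ E.ncard = 23 := by
  obtain ⟨a, ha, -⟩ := S.two_members
  obtain ⟨E', hE, -, hc, hn⟩ := FischerM22.exists_commuting (S.localSetup ha)
  rw [qset_eq] at hE
  set E := {y | y ∈ adj D a ∧ qm D a y ∈ E'} with hEdef
  have himg : qm D a '' E = E' := by
    refine Set.Subset.antisymm (by rintro _ ⟨y, hy, rfl⟩; exact hy.2) fun q hq => ?_
    obtain ⟨y, hy, rfl⟩ := hE hq
    exact ⟨y, ⟨hy, hq⟩, rfl⟩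
  refine ⟨insert a E, ?_, Set.toFinite _, ?_, ?_⟩
  · rintro y (rfl | hy)
    exacts [ha, hy.1.1]
  · rintro x (rfl | hx) y (rfl | hy)
    exacts [Commute.refl _, hy.1.2.2, hx.1.2.2.symm, (qm_comm S ha hx.1 hy.1).1 (hc _ hx.2 _ hy.2)]
  · rw [Set.ncard_insert_of_notMem (fun h => h.1.2.1 rfl), ← qm_ncard S ha (fun y hy => hy.1), himg, hn]

theorem width_eq (S : Fi23Setup D) : Cfsg.commutingWidth D = 23 := by
  refine le_antisymm ?_ (le_csSup ⟨23, ?_⟩ (exists_commuting S))
  · refine csSup_le ⟨23, exists_commuting S⟩ ?_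
    rintro n ⟨E, hE, -, hc, rfl⟩
    exact commuting_le S hE hc
  · rintro n ⟨E, hE, -, hc, rfl⟩
    exact commuting_le S hE hc

end Cfsg.Agent.FischerM23
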