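/-
Frames of type Y342 in a group of type M(23).

Main results (namespace `Cfsg.Agent.FischerM23`):
* `qm_adj_iff`, `qm_common_iff` : the dictionary between a local quotient and the group;
* `hexG`, `hexG_ncard`, `hexG_kill`, `hub_mem` : hexads seen inside the neighbours of a member;
* `wset_counts` : the members of `common x y` commuting with a path of three;
* `Y342`, `exists_frame` : members with the commuting pattern of the diagram Y342 exist.
-/
import Cfsg.Agent.Lib.FischerM23.Total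
import Cfsg.Agent.Lib.FischerM22.Lines

set_option autoImplicit false

namespace Cfsg.Agent.FischerM23

open Cfsg.Agent.ThreeTrans Cfsg.Agent.ThreeTransSU
open Cfsg.Agent.FischerM22 (pathMat FarPair IsTriple perpSet cell)

variable {G : Type*} [Group G] {D : Set G}

/-- The hexad through `a, c, g` in the local quotient at `w`, as a set of members. -/
def hexG (D : Set G) (w a c g : G) : Set G :=
  {p | p ∈ adj D w ∧ Commute p a ∧ Commute p c ∧ Commute p g ∧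
    ∀ q ∈ adj D w, Commute q a → Commute q c → Commute q g → Commute p q}

/-- Members commuting with `k` lying on both sides of a non-commuting pair are distinct. -/
theorem ne_of_commute {u v k : G} (h1 : Commute u k) (h2 : ¬ Commute v k) : u ≠ v := fun e => h2 (e ▸ h1)

theorem exists_lift {k : G} {q : QL D k} (hq : q ∈ QSet D k) : ∃ p ∈ adj D k, qm D k p = q := by
  rw [qset_eq] at hq; exact hq

variable [Finite G]

theorem qm_adj_iff (S : Fi23Setup D) {k p x : G} (hk : k ∈ D) (hp : p ∈ adj D k) (hx : x ∈ adj D k) :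
    qm D k p ∈ adj (QSet D k) (qm D k x) ↔ p ∈ adj D x :=
  ⟨fun h => ⟨hp.1, fun e => h.2.1 (e ▸ rfl), (qm_comm S hk hx hp).1 h.2.2⟩,
    fun h => qm_mem_adj S hk hx hp h.2.1 h.2.2⟩

theorem qm_common_iff (S : Fi23Setup D) {k p x y : G} (hk : k ∈ D) (hp : p ∈ adj D k) (hx : x ∈ adj D k)
    (hy : y ∈ adj D k) : qm D k p ∈ common (QSet D k) (qm D k x) (qm D k y) ↔ p ∈ common D x y :=
  and_congr (qm_adj_iff S hk hp hx) (qm_adj_iff S hk hp hy)

theorem qm_farPair (S : Fi23Setup D) {k x y : G} (hk : k ∈ D) (hx : x ∈ adj D k) (hy : y ∈ adj D k)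
    (hxy : ¬ Commute x y) : FarPair (QSet D k) (qm D k x) (qm D k y) :=
  ⟨qm_mem hx, qm_mem hy, fun h => hxy ((qm_comm S hk hx hy).1 h)⟩

/-- A pattern of commuting passes to the local quotient. -/
theorem qm_pattern (S : Fi23Setup D) {k : G} (hk : k ∈ D) {n : ℕ} {m : Fin n → G} (hm : ∀ j, m j ∈ adj D k)
    (hpat : ∀ j l, Commute (m j) (m l) ↔ pathMat n j l = 0) (j l : Fin n) :
    Commute (qm D k (m j)) (qm D k (m l)) ↔ pathMat n j l = 0 :=
  (qm_comm S hk (hm j) (hm l)).trans (hpat j l)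

section Hex

variable {w a c g : G}

theorem qm_hexG_iff (S : Fi23Setup D) (hw : w ∈ D) (ha : a ∈ adj D w) (hc : c ∈ adj D w) (hg : g ∈ adj D w)
    {p : G} (hp : p ∈ adj D w) :
    qm D w p ∈ hexSet (QSet D w) (qm D w a) (qm D w c) (qm D w g) ↔ p ∈ hexG D w a c g := by
  constructor
  · rintro ⟨-, h1, h2, h3, h4⟩
    refine ⟨hp, (qm_comm S hw hp ha).1 h1, (qm_comm S hw hp hc).1 h2, (qm_comm S hw hp hg).1 h3,
      fun q hq qa qc qg => (qm_comm S hw hp hq).1 (h4 _ (qm_mem hq) ?_ ?_ ?_)⟩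
    exacts [(qm_comm S hw hq ha).2 qa, (qm_comm S hw hq hc).2 qc, (qm_comm S hw hq hg).2 qg]
  · rintro ⟨-, h1, h2, h3, h4⟩
    refine ⟨qm_mem hp, (qm_comm S hw hp ha).2 h1, (qm_comm S hw hp hc).2 h2, (qm_comm S hw hp hg).2 h3,
      fun r hr qa qc qg => ?_⟩
    obtain ⟨q, hq, rfl⟩ := exists_lift hr
    exact (qm_comm S hw hp hq).2 (h4 q hq ((qm_comm S hw hq ha).1 qa) ((qm_comm S hw hq hc).1 qc)
      ((qm_comm S hw hq hg).1 qg))

theorem qm_triple (S : Fi23Setup D) (hw : w ∈ D) (ha : a ∈ adj D w) (hc : c ∈ adj D w) (hg : g ∈ adj D w)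
    (hT : IsTriple D a c g) : IsTriple (QSet D w) (qm D w a) (qm D w c) (qm D w g) := by
  obtain ⟨-, -, -, n1, n2, n3, c1, c2, c3⟩ := hT
  exact ⟨qm_mem ha, qm_mem hc, qm_mem hg, fun e => n1 (qm_inj S hw ha hc e), fun e => n2 (qm_inj S hw ha hg e),
    fun e => n3 (qm_inj S hw hc hg e), (qm_comm S hw ha hc).2 c1, (qm_comm S hw ha hg).2 c2,
    (qm_comm S hw hc hg).2 c3⟩

omit [Finite G] in
theorem self_mem_hexG (ha : a ∈ adj D w) (hc : c ∈ adj D w) (hg : g ∈ adj D w) (hT : IsTriple D a c g) :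
    a ∈ hexG D w a c g ∧ c ∈ hexG D w a c g ∧ g ∈ hexG D w a c g := by
  obtain ⟨-, -, -, -, -, -, c1, c2, c3⟩ := hT
  exact ⟨⟨ha, Commute.refl a, c1, c2, fun _ _ h _ _ => h.symm⟩,
    ⟨hc, c1.symm, Commute.refl c, c3, fun _ _ _ h _ => h.symm⟩,
    ⟨hg, c2.symm, c3.symm, Commute.refl g, fun _ _ _ _ h => h.symm⟩⟩

theorem hexG_ncard (S : Fi23Setup D) (hw : w ∈ D) (ha : a ∈ adj D w) (hc : c ∈ adj D w) (hg : g ∈ adj D w)
    (hT : IsTriple D a c g) : (hexG D w a c g).ncard = 6 := by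
  rw [← qm_ncard S hw (s := hexG D w a c g) (fun p hp => hp.1),
    show qm D w '' hexG D w a c g = hexSet (QSet D w) (qm D w a) (qm D w c) (qm D w g) from ?_,
    FischerM22.hexSet_ncard (S.localSetup hw) (qm_triple S hw ha hc hg hT)]
  ext q
  constructor
  · rintro ⟨p, hp, rfl⟩
    exact (qm_hexG_iff S hw ha hc hg hp.1).2 hp
  · intro hq
    obtain ⟨p, hp, rfl⟩ := exists_lift hq.1
    exact ⟨p, (qm_hexG_iff S hw ha hc hg hp).1 hq, rfl⟩

/-- A neighbour commuting with three members of a hexad commutes with all. -/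
theorem hexG_kill (S : Fi23Setup D) (hw : w ∈ D) (ha : a ∈ adj D w) (hc : c ∈ adj D w) (hg : g ∈ adj D w)
    (hT : IsTriple D a c g) {p q r s y : G} (hp : p ∈ hexG D w a c g) (hq : q ∈ hexG D w a c g)
    (hr : r ∈ hexG D w a c g) (hs : s ∈ hexG D w a c g) (h1 : p ≠ q) (h2 : p ≠ r) (h3 : q ≠ r)
    (hy : y ∈ adj D w) (yp : Commute y p) (yq : Commute y q) (yr : Commute y r) : Commute s y := by
  have L := fun {u : G} (hu : u ∈ hexG D w a c g) => (qm_hexG_iff S hw ha hc hg hu.1).2 hu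
  have hs' := L hs
  rw [← FischerM22.hexSet_eq_of_mem (S.localSetup hw) (qm_triple S hw ha hc hg hT) (L hp) (L hq) (L hr)
    (fun e => h1 (qm_inj S hw hp.1 hq.1 e)) (fun e => h2 (qm_inj S hw hp.1 hr.1 e))
    (fun e => h3 (qm_inj S hw hq.1 hr.1 e))] at hs'
  exact (qm_comm S hw hs.1 hy).1 (hs'.2.2.2.2 _ (qm_mem hy) ((qm_comm S hw hy hp.1).2 yp)
    ((qm_comm S hw hy hq.1).2 yq) ((qm_comm S hw hy hr.1).2 yr))

/-- A further member `e` of the hexad at `w` puts `w` in the hexad of `c, g, e` at `a`. -/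
theorem hub_mem (S : Fi23Setup D) (hw : w ∈ D) (ha : a ∈ adj D w) (hc : c ∈ adj D w) (hg : g ∈ adj D w)
    (hT : IsTriple D a c g) {e : G} (he : e ∈ hexG D w a c g) (n1 : e ≠ a) (n2 : e ≠ c) (n3 : e ≠ g) :
    IsTriple D c g e ∧ c ∈ adj D a ∧ g ∈ adj D a ∧ e ∈ adj D a ∧ w ∈ hexG D a c g e := by
  obtain ⟨haD, hcD, hgD, m1, m2, m3, c1, c2, c3⟩ := id hT
  obtain ⟨hew, ea, ec, eg, hall⟩ := id he
  have hca : c ∈ adj D a := ⟨hcD, m1.symm, c1⟩
  have hga : g ∈ adj D a := ⟨hgD, m2.symm, c2⟩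
  have hea : e ∈ adj D a := ⟨hew.1, n1, ea.symm⟩
  have hT' : IsTriple D c g e := ⟨hcD, hgD, hew.1, m3, n2.symm, n3.symm, c3, ec.symm, eg.symm⟩
  have hwa : w ∈ adj D a := FischerM22.adj_symm hw ha
  refine ⟨hT', hca, hga, hea, ?_⟩
  by_contra hnot
  have hsub : insert a (hexG D a c g e) ⊆ hexG D w a c g := by
    intro p hp
    rcases hp with rfl | hp
    · exact (self_mem_hexG ha hc hg hT).1
    obtain ⟨hpa, pc, pg, pe, pall⟩ := id hp
    have pw : Commute p w := pall w hwa hc.2.2 hg.2.2 hew.2.2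
    have hpw : p ∈ adj D w := ⟨hpa.1, fun h => hnot (h ▸ hp), pw.symm⟩
    refine ⟨hpw, hpa.2.2.symm, pc, pg, fun q hq qa qc qg => ?_⟩
    by_cases h : q = a
    · exact h ▸ hpa.2.2.symm
    · exact pall q ⟨hq.1, h, qa.symm⟩ qc qg (hall q hq qa qc qg).symm
  have h7 := Set.ncard_le_ncard hsub (Set.toFinite _)
  rw [Set.ncard_insert_of_notMem (fun h => h.1.2.1 rfl) (Set.toFinite _),
    hexG_ncard S haD hca hga hea hT', hexG_ncard S hw ha hc hg hT] at h7
  omega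

/-- The member like a completion in the hexad of a chain and its dual point. -/
theorem exists_hex_dual (S : Fi23Setup D) (hw : w ∈ D) {z : G} (hz : z ∈ adj D w) (m : Fin 6 → G)
    (hmw : ∀ j, m j ∈ adj D w) (hmz : ∀ j, m j ∈ adj D z)
    (hpat : ∀ j l, Commute (m j) (m l) ↔ pathMat 6 j l = 0) (hg : g ∈ adj D w) (hgz : g ∈ adj D z)
    (hgc : ∀ j, j ≠ 5 → Commute g (m j)) (hg5 : ¬ Commute g (m 5)) :
    ∃ p ∈ hexG D w (m 0) (m 2) g, p ∈ adj D z ∧ Commute p (m 1) ∧ ¬ Commute p (m 3) ∧ ¬ Commute p (m 5) := by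
  obtain ⟨-, p, hpH, hpz, p1, p3, p5⟩ := FischerM22.exists_hexad_dual (S.localSetup hw) (qm_mem hz)
    (fun j => qm D w (m j)) (fun j => (qm_adj_iff S hw (hmw j) hz).2 (hmz j)) (qm_pattern S hw hmw hpat)
    ((qm_adj_iff S hw hg hz).2 hgz) (fun j hj => (qm_comm S hw hg (hmw j)).2 (hgc j hj))
    (fun h => hg5 ((qm_comm S hw hg (hmw 5)).1 h))
  obtain ⟨p, hp, rfl⟩ := exists_lift hpH.1
  exact ⟨p, (qm_hexG_iff S hw (hmw 0) (hmw 2) hg hp).1 hpH, (qm_adj_iff S hw hp hz).1 hpz,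
    (qm_comm S hw hp (hmw 1)).1 p1, fun h => p3 ((qm_comm S hw hp (hmw 3)).2 h),
    fun h => p5 ((qm_comm S hw hp (hmw 5)).2 h)⟩

end Hex

/-- Counts among the members of `common x y` commuting with a path of three. -/
theorem wset_counts (S : Fi23Setup D) {x y a b c k : G} (hx : x ∈ D) (hy : y ∈ D) (hxy : ¬ Commute x y)
    (ha : a ∈ common D x y) (hb : b ∈ common D x y) (hc : c ∈ common D x y) (hab : ¬ Commute a b)
    (hac : c ∈ adj D a) (hbc : ¬ Commute b c)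
    (hk : k ∈ common D x y ∩ adj D a ∩ adj D b ∩ adj D c) :
    ((common D x y ∩ adj D a ∩ adj D b ∩ adj D c) ∩ adj D k).ncard = 6 ∧
    ∀ k' ∈ (common D x y ∩ adj D a ∩ adj D b ∩ adj D c) ∩ adj D k,
      ((common D x y ∩ adj D a ∩ adj D b ∩ adj D c) ∩ adj D k ∩ adj D k').ncard = 1 := by
  set W := common D x y ∩ adj D a ∩ adj D b ∩ adj D c with hW
  obtain ⟨⟨⟨hkS, hka⟩, hkb⟩, hkc⟩ := id hk
  have hkD : k ∈ D := hkS.1.1
  have kx := FischerM22.adj_symm hx hkS.1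
  have ky := FischerM22.adj_symm hy hkS.2
  have ak := FischerM22.adj_symm ha.1.1 hka
  have bk := FischerM22.adj_symm hb.1.1 hkb
  have ck := FischerM22.adj_symm hc.1.1 hkc
  have hS := S.localSetup hkD
  have P := qm_farPair S hkD kx ky hxy
  have aS := (qm_common_iff S hkD ak kx ky).2 ha
  have bS := (qm_common_iff S hkD bk kx ky).2 hb
  have cell' : qm D k c ∈ cell (QSet D k) (qm D k x) (qm D k y) (qm D k a) :=
    ⟨(qm_common_iff S hkD ck kx ky).2 hc, (qm_adj_iff S hkD ck ak).2 hac⟩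
  have nab : ¬ Commute (qm D k a) (qm D k b) := fun h => hab ((qm_comm S hkD ak bk).1 h)
  have notK : qm D k c ∉ perpSet (QSet D k) (qm D k x) (qm D k y) (qm D k a) (qm D k b) := fun h =>
    hbc ((qm_comm S hkD bk ck).1 h.2.2.2)
  set K := perpSet (QSet D k) (qm D k x) (qm D k y) (qm D k a) (qm D k b) with hK
  have hiff : ∀ p ∈ adj D k, qm D k p ∈ K ∩ adj (QSet D k) (qm D k c) ↔ p ∈ W := fun p hp => by
    have e1 := qm_common_iff S hkD hp kx ky
    have e2 := qm_adj_iff S hkD hp ak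
    have e3 := qm_adj_iff S hkD hp bk
    have e4 := qm_adj_iff S hkD hp ck
    exact ⟨fun ⟨⟨⟨h1, h2⟩, h3⟩, h4⟩ => ⟨⟨⟨e1.1 h1, e2.1 h2⟩, e3.1 h3⟩, e4.1 h4⟩,
      fun ⟨⟨⟨h1, h2⟩, h3⟩, h4⟩ => ⟨⟨⟨e1.2 h1, e2.2 h2⟩, e3.2 h3⟩, e4.2 h4⟩⟩
  have himg : qm D k '' (W ∩ adj D k) = K ∩ adj (QSet D k) (qm D k c) := by
    ext q
    constructor
    · rintro ⟨p, hp, rfl⟩
      exact (hiff p hp.2).2 hp.1
    · intro hq
      obtain ⟨p, hp, rfl⟩ := exists_lift hq.1.1.1.1.1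
      exact ⟨p, ⟨(hiff p hp).1 hq, hp⟩, rfl⟩
  refine ⟨?_, fun k' hk' => ?_⟩
  · rw [← qm_ncard S hkD (Set.inter_subset_right : W ∩ adj D k ⊆ _), himg]
    exact P.perp_out hS aS bS nab cell' notK
  · have k'K : qm D k k' ∈ K := ((hiff k' hk'.2).2 hk'.1).1
    rw [← qm_ncard S hkD (Set.inter_subset_left.trans Set.inter_subset_right : W ∩ adj D k ∩ adj D k' ⊆ _),
      show qm D k '' (W ∩ adj D k ∩ adj D k')
          = K ∩ adj (QSet D k) (qm D k k') ∩ adj (QSet D k) (qm D k c) from ?_]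
    · exact P.perp_line_one hS aS bS nab cell' notK k'K
    ext q
    constructor
    · rintro ⟨p, ⟨⟨h1, h2⟩, h3⟩, rfl⟩
      have h := (hiff p h2).2 h1
      exact ⟨⟨h.1, (qm_adj_iff S hkD h2 hk'.2).2 h3⟩, h.2⟩
    · rintro ⟨⟨h1, h2⟩, h3⟩
      obtain ⟨p, ⟨hp1, hp2⟩, rfl⟩ : q ∈ qm D k '' (W ∩ adj D k) := himg.symm ▸ ⟨h1, h3⟩
      exact ⟨p, ⟨⟨hp1, hp2⟩, (qm_adj_iff S hkD hp2 hk'.2).1 h2⟩, rfl⟩

/-- Members with the commuting pattern of the diagram Y342, with a further member `x` commuting with all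
but `j`. -/
structure Y342 (D : Set G) (x a b c d e f g j h i : G) : Prop where
  base : x ∈ D
  mem : ∀ k ∈ [a, b, c, d, e, f, g, h, i], k ∈ adj D x
  frame : FischerM22.YFrame (QSet D x) (qm D x a) (qm D x b) (qm D x c) (qm D x d) (qm D x e) (qm D x f)
    (qm D x g) (qm D x h) (qm D x i)
  jD : j ∈ D
  far : ¬ Commute x j
  jg : ¬ Commute g j
  jcomm : ∀ k ∈ [a, b, c, d, e, f, h, i], Commute j k

/-- Frames exist. -/
theorem exists_frame (S : Fi23Setup D) :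
    ∃ x a b c d e f g j h i, Y342 D x a b c d e f g j h i := by
  classical
  obtain ⟨x, hx, -⟩ := S.two_members
  obtain ⟨y, hy, hyx⟩ := exists_not_commute S.cls S.two_members hx
  have hxy : ¬ Commute x y := fun hc => hyx hc
  obtain ⟨i, hi⟩ : (common D x y).Nonempty := by
    rw [← Set.ncard_pos (Set.toFinite _), common_card S hx hy hxy]; norm_num
  have hiD : i ∈ D := hi.1.1
  have ix := FischerM22.adj_symm hx hi.1
  have iy := FischerM22.adj_symm hy hi.2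
  have hSi := S.localSetup hiD
  have Pi := qm_farPair S hiD ix iy hxy
  -- a path of four, a fifth member and the completions
  obtain ⟨a', b', c', d', f', ⟨a1, b1, c1, d1, f1⟩, ⟨qac, qad, qaf, qbd, qbf, qcf, qdf⟩, ⟨qab, qbc, qcd⟩, hfour⟩ :=
    FischerM22.exists_five Pi hSi
  obtain ⟨a, ai, rfl⟩ := exists_lift a1.1.1
  obtain ⟨b, bi, rfl⟩ := exists_lift b1.1.1
  obtain ⟨c, ci, rfl⟩ := exists_lift c1.1.1
  obtain ⟨d, di, rfl⟩ := exists_lift d1.1.1
  obtain ⟨f, fi, rfl⟩ := exists_lift f1.1.1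
  have aS := (qm_common_iff S hiD ai ix iy).1 a1
  have bS := (qm_common_iff S hiD bi ix iy).1 b1
  have cS := (qm_common_iff S hiD ci ix iy).1 c1
  have dS := (qm_common_iff S hiD di ix iy).1 d1
  have fS := (qm_common_iff S hiD fi ix iy).1 f1
  have cac := (qm_comm S hiD ai ci).1 qac
  have cad := (qm_comm S hiD ai di).1 qad
  have caf := (qm_comm S hiD ai fi).1 qaf
  have cbd := (qm_comm S hiD bi di).1 qbd
  have cbf := (qm_comm S hiD bi fi).1 qbf
  have ccf := (qm_comm S hiD ci fi).1 qcf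
  have cdf := (qm_comm S hiD di fi).1 qdf
  have nab : ¬ Commute a b := fun h => qab ((qm_comm S hiD ai bi).2 h)
  have nbc : ¬ Commute b c := fun h => qbc ((qm_comm S hiD bi ci).2 h)
  have ncd : ¬ Commute c d := fun h => qcd ((qm_comm S hiD ci di).2 h)
  set Cand := {p | p ∈ common D x y ∧ p ∈ adj D i ∧ Commute p a ∧ Commute p b ∧ Commute p c ∧ ¬ Commute p d ∧
    ¬ Commute p f} with hCand
  have hC4 : 4 ≤ Cand.ncard := by
    refine hfour.trans ((Set.ncard_le_ncard ?_ (Set.toFinite _)).trans (Set.ncard_image_le (f := qm D i) (Set.toFinite Cand)))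
    rintro q ⟨q1, qa, qb, qc, qd, qf⟩
    obtain ⟨p, hp, rfl⟩ := exists_lift q1.1.1
    exact ⟨p, ⟨(qm_common_iff S hiD hp ix iy).1 q1, hp, (qm_comm S hiD hp ai).1 qa, (qm_comm S hiD hp bi).1 qb,
      (qm_comm S hiD hp ci).1 qc, fun h => qd ((qm_comm S hiD hp di).2 h),
      fun h => qf ((qm_comm S hiD hp fi).2 h)⟩, rfl⟩
  obtain ⟨e₀, e0S, e0i, e0a, e0b, e0c, e0d, e0f⟩ : Cand.Nonempty :=
    (Set.ncard_pos (Set.toFinite _)).1 (by omega)
  have patOf : ∀ {e : G}, Commute e a → Commute e b → Commute e c → ¬ Commute e d → ¬ Commute e f →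
      ∀ j l, Commute ((![a, b, c, d, e, f] : Fin 6 → G) j) ((![a, b, c, d, e, f] : Fin 6 → G) l)
        ↔ pathMat 6 j l = 0 := by
    intro e ea eb ec ed ef j l
    fin_cases j <;> fin_cases l <;>
      simp [pathMat, Commute.refl, cac, cad, caf, cbd, cbf, ccf, cdf, cac.symm, cad.symm, caf.symm, cbd.symm,
        cbf.symm, ccf.symm, cdf.symm, ea, eb, ec, ea.symm, eb.symm, ec.symm, nab, nbc, ncd, ed, ef,
        mt Commute.symm nab, mt Commute.symm nbc, mt Commute.symm ncd, mt Commute.symm ed, mt Commute.symm ef]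
  set m : Fin 6 → G := ![a, b, c, d, e₀, f] with hm
  have hmi : ∀ j, m j ∈ adj D i := fun j => by fin_cases j <;> assumption
  have hmS : ∀ j, m j ∈ common D x y := fun j => by fin_cases j <;> assumption
  have hpat := patOf e0a e0b e0c e0d e0f
  -- the dual point
  obtain ⟨g', hg', gc', g5'⟩ := FischerM22.exists_dual_point hSi (qm_mem ix) (fun j => qm D i (m j))
    (fun j => (qm_adj_iff S hiD (hmi j) ix).2 (hmS j).1) (qm_pattern S hiD hmi hpat)
  obtain ⟨g, gi, rfl⟩ := exists_lift hg'.1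
  have gx : g ∈ adj D x := (qm_adj_iff S hiD gi ix).1 hg'
  have gc : ∀ j, j ≠ 5 → Commute g (m j) := fun j hj => (qm_comm S hiD gi (hmi j)).1 (gc' j hj)
  have ngf : ¬ Commute g f := fun h => g5' ((qm_comm S hiD gi fi).2 h)
  have cga : Commute g a := gc 0 (by decide)
  have cgb : Commute g b := gc 1 (by decide)
  have cgc : Commute g c := gc 2 (by decide)
  have cgd : Commute g d := gc 3 (by decide)
  have ngy : ¬ Commute g y := fun hc => by
    have gS : g ∈ common D x y := ⟨gx, gi.1, fun e => hxy (e ▸ gx.2.2), hc.symm⟩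
    have h4 : ∀ j l : Fin 4, pathMat 4 j l = pathMat 6 ⟨j.val, by omega⟩ ⟨l.val, by omega⟩ := fun _ _ => rfl
    have := Pi.a4_unique hSi (fun j : Fin 4 => qm D i (m ⟨j.val, by omega⟩))
      (fun j => (qm_common_iff S hiD (hmi _) ix iy).2 (hmS _))
      (fun j l => (qm_pattern S hiD hmi hpat _ _).trans (by rw [h4]))
      ((qm_common_iff S hiD gi ix iy).2 gS) f1
      (fun j => (qm_comm S hiD gi (hmi _)).2 (gc _ (by simp only [ne_eq, Fin.ext_iff]; omega)))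
      (fun j => (qm_comm S hiD fi (hmi _)).2 (by
        fin_cases j <;> simp [hm, caf.symm, cbf.symm, ccf.symm, cdf.symm]))
    exact ngf ((qm_inj S hiD gi fi this) ▸ Commute.refl g)
  have ax := aS.1
  have cx := cS.1
  have n_ac : a ≠ c := ne_of_commute cad ncd
  have n_ga : g ≠ a := (ne_of_commute caf ngf).symm
  have n_gc : g ≠ c := (ne_of_commute ccf ngf).symm
  have hT : IsTriple D a c g :=
    ⟨aS.1.1, cS.1.1, gi.1, n_ac, n_ga.symm, n_gc.symm, cac, cga.symm, cgc.symm⟩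
  -- the two hexad members
  obtain ⟨ei, eiH, eix, eib, eid, eif⟩ := exists_hex_dual S hiD ix m hmi (fun j => (hmS j).1) hpat gi gx gc ngf
  obtain ⟨ex, exH, exi, exb, exd, exf⟩ :=
    exists_hex_dual S hx hi.1 m (fun j => (hmS j).1) hmi hpat gx gi gc ngf
  change ei ∈ hexG D i a c g at eiH
  change ex ∈ hexG D x a c g at exH
  change ¬ Commute ei d at eid
  change ¬ Commute ei f at eif
  change ¬ Commute ex d at exd
  change ¬ Commute ex f at exf
  have neOf : ∀ {p : G}, ¬ Commute p d → ¬ Commute p f → p ≠ a ∧ p ≠ c ∧ p ≠ g := fun pd pf =>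
    ⟨(ne_of_commute cad pd).symm, (ne_of_commute ccf pf).symm, (ne_of_commute cgd pd).symm⟩
  have hne : ex ≠ ei := by
    intro h
    subst h
    obtain ⟨n1, n2, n3⟩ := neOf exd exf
    obtain ⟨hT', hca, hga, hea, hxH⟩ := hub_mem S hx ax cx gx hT exH n1 n2 n3
    obtain ⟨-, -, -, -, hiH⟩ := hub_mem S hiD ai ci gi hT eiH n1 n2 n3
    obtain ⟨cH, gH, -⟩ := self_mem_hexG hca hga hea hT'
    exact ngf (hexG_kill S aS.1.1 hca hga hea hT' cH hxH hiH gH cx.2.1 ci.2.1 ix.2.1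
      ⟨fS.1.1, ne_of_commute cbf.symm nab, caf⟩ ccf.symm fS.1.2.2.symm fi.2.2.symm)
  -- counting the completions
  set X := {p | p ∈ adj D i ∧ p ∈ adj D x ∧ Commute p a ∧ Commute p b ∧ Commute p c ∧ ¬ Commute p d ∧
    ¬ Commute p f} with hX
  set g₁ := f * g * f⁻¹ with hg₁
  have fL := mem_loc_of_adj fi
  have g1i : g₁ ∈ adj D i := conj_mem_adj_loc S fL gi
  obtain ⟨hX0, hX1⟩ := FischerM22.dual_cover hSi (qm_mem ix) (fun j => qm D i (m j))
    (fun j => (qm_adj_iff S hiD (hmi j) ix).2 (hmS j).1) (qm_pattern S hiD hmi hpat)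
    ((qm_adj_iff S hiD gi ix).2 gx) (fun j hj => (qm_comm S hiD gi (hmi j)).2 (gc j hj))
  set X0 := {p | p ∈ X ∧ Commute p g} with hX0def
  set X1 := {p | p ∈ X ∧ Commute p g₁} with hX1def
  have h03 : X0.ncard ≤ 3 := by
    refine le_trans ?_ hX0
    rw [← qm_ncard S hiD (s := X0) (fun p hp => hp.1.1)]
    refine Set.ncard_le_ncard ?_ (Set.toFinite _)
    rintro _ ⟨p, ⟨⟨pi', px, pa, pb, pc, pd, pf⟩, pg⟩, rfl⟩
    exact ⟨(qm_adj_iff S hiD pi' ix).2 px, (qm_comm S hiD pi' ai).2 pa, (qm_comm S hiD pi' bi).2 pb,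
      (qm_comm S hiD pi' ci).2 pc, fun h => pd ((qm_comm S hiD pi' di).1 h),
      fun h => pf ((qm_comm S hiD pi' fi).1 h), (qm_comm S hiD pi' gi).2 pg⟩
  have hcov : ∀ p ∈ X, p ∈ X0 ∨ p ∈ X1 := by
    intro p hp
    obtain ⟨pi', px, pa, pb, pc, pd, pf⟩ := id hp
    by_cases pg : Commute p g
    · exact Or.inl ⟨hp, pg⟩
    refine Or.inr ⟨hp, (qm_comm S hiD pi' g1i).1 ?_⟩
    rw [hg₁, qm_conj fL (mem_loc_of_adj gi)]
    exact hX1 _ ((qm_adj_iff S hiD pi' ix).2 px) ((qm_comm S hiD pi' ai).2 pa) ((qm_comm S hiD pi' bi).2 pb)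
      ((qm_comm S hiD pi' ci).2 pc) (fun h => pd ((qm_comm S hiD pi' di).1 h))
      (fun h => pf ((qm_comm S hiD pi' fi).1 h)) fun h => pg ((qm_comm S hiD pi' gi).1 h)
  set φ := fun p => f * p * f⁻¹ with hφ
  have ff : ∀ q, φ (φ q) = q := fun q => by
    have hh := mul_self S.cls.1 fS.1.1
    show f * (f * q * f⁻¹) * f⁻¹ = q
    rw [inv_eq S.cls.1 fS.1.1]
    calc f * (f * q * f) * f = f * f * q * (f * f) := by simp only [mul_assoc]
      _ = q := by rw [hh, one_mul, mul_one]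
  have fix : ∀ {q}, Commute f q → φ q = q := fun {q} h => by
    show f * q * f⁻¹ = q
    rw [h.eq, mul_inv_cancel_right]
  have cmap : ∀ {p q}, Commute p q → Commute (φ p) (φ q) := fun {p q} h =>
    h.map (MulAut.conj f).toMonoidHom
  have cfix : ∀ {p q}, Commute f q → (Commute (φ p) q ↔ Commute p q) := fun {p q} hq => by
    refine ⟨fun h => ?_, fun h => ?_⟩
    · have := cmap h
      rwa [ff, fix hq] at this
    · have := cmap h
      rwa [fix hq] at this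
  have hφX : ∀ p ∈ X, φ p ∈ X := by
    rintro p ⟨pi', px, pa, pb, pc, pd, pf⟩
    exact ⟨conj_mem_adj_loc S fL pi', conj_mem_adj_loc S (mem_loc_of_adj fS.1) px, (cfix caf.symm).2 pa,
      (cfix cbf.symm).2 pb, (cfix ccf.symm).2 pc, mt (cfix cdf.symm).1 pd, mt (cfix (Commute.refl f)).1 pf⟩
  have h13 : X1.ncard ≤ 3 := by
    refine le_trans ((Set.ncard_le_ncard ?_ (Set.toFinite _)).trans
      (Set.ncard_image_le (f := φ) (Set.toFinite X0))) h03
    rintro p ⟨hp, pg⟩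
    refine ⟨φ p, ⟨hφX p hp, ?_⟩, ff p⟩
    have := cmap pg
    rwa [show φ g₁ = g from ff g] at this
  have hei : ei ∈ X0 := ⟨⟨eiH.1, eix, eiH.2.1, eib, eiH.2.2.1, eid, eif⟩, eiH.2.2.2.1⟩
  have hex : ex ∈ X0 := ⟨⟨exi, exH.1, exH.2.1, exb, exH.2.2.1, exd, exf⟩, exH.2.2.2.1⟩
  have hei1 : φ ei ∈ X1 := ⟨hφX _ hei.1, cmap hei.2⟩
  have neiy : ¬ Commute ei y := fun hc => by
    obtain ⟨n1, n2, -⟩ := neOf eid eif
    obtain ⟨aH, cH, gH⟩ := self_mem_hexG ai ci gi hT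
    exact ngy (hexG_kill S hiD ai ci gi hT aH cH eiH gH n_ac n1.symm n2.symm iy aS.2.2.2 cS.2.2.2 hc.symm)
  have exC : ex ∈ Cand := by
    by_contra hnot
    have hsub : Cand ⊆ (X0 \ {ei, ex}) ∪ (X1 \ {φ ei}) := by
      rintro p hp
      obtain ⟨pS, pi', pa, pb, pc, pd, pf⟩ := id hp
      have py : Commute p y := pS.2.2.2.symm
      rcases hcov p ⟨pi', pS.1, pa, pb, pc, pd, pf⟩ with h | h
      · refine Or.inl ⟨h, ?_⟩
        rintro (rfl | rfl)
        exacts [neiy py, hnot hp]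
      · refine Or.inr ⟨h, ?_⟩
        rintro rfl
        exact neiy ((cfix fS.2.2.2.symm).1 py)
    have h1 := Set.ncard_le_ncard hsub (Set.toFinite _)
    have h2 := Set.ncard_union_le (X0 \ {ei, ex}) (X1 \ {φ ei})
    rw [Set.ncard_sdiff (Set.insert_subset hei (Set.singleton_subset_iff.2 hex)), Set.ncard_pair hne.symm,
      Set.ncard_sdiff_singleton_of_mem hei1] at h2
    omega
  obtain ⟨eS, ei', cea, ceb, cec, ned, nef⟩ := exC
  have ceg : Commute ex g := exH.2.2.2.1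
  set e := ex with he
  have hpat' := patOf cea ceb cec ned nef
  -- the member h
  set W := common D x y ∩ adj D a ∩ adj D b ∩ adj D c with hW
  have n_ie : i ≠ e := ei'.2.1.symm
  have iW : i ∈ W := ⟨⟨⟨hi, FischerM22.adj_symm hiD ai⟩, FischerM22.adj_symm hiD bi⟩, FischerM22.adj_symm hiD ci⟩
  have eW : e ∈ W := ⟨⟨⟨eS, eS.1.1, (ne_of_commute cad ned).symm, cea.symm⟩,
    eS.1.1, (ne_of_commute cbd ned).symm, ceb.symm⟩, eS.1.1, (ne_of_commute ccf nef).symm, cec.symm⟩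
  have fW : f ∈ W := ⟨⟨⟨fS, fS.1.1, ne_of_commute cbf.symm nab, caf⟩,
    fS.1.1, ne_of_commute ccf.symm nbc, cbf⟩, fS.1.1, ne_of_commute cdf.symm ncd, ccf⟩
  have hac : c ∈ adj D a := ⟨cS.1.1, n_ac.symm, cac⟩
  have cnt : ∀ {k : G}, k ∈ W → (W ∩ adj D k).ncard = 6 ∧
      ∀ k' ∈ W ∩ adj D k, (W ∩ adj D k ∩ adj D k').ncard = 1 := fun hk =>
    wset_counts S hx hy hxy aS bS cS nab hac nbc hk
  have hcl : ∀ k ∈ W, ∀ k' ∈ W, k * k' * k⁻¹ ∈ W := fun k hk k' hk' =>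
    ⟨⟨⟨⟨conj_mem_adj_loc S (mem_loc_of_adj hk.1.1.1.1) hk'.1.1.1.1,
      conj_mem_adj_loc S (mem_loc_of_adj hk.1.1.1.2) hk'.1.1.1.2⟩,
      conj_mem_adj_loc S (mem_loc_of_adj hk.1.1.2) hk'.1.1.2⟩,
      conj_mem_adj_loc S (mem_loc_of_adj hk.1.2) hk'.1.2⟩,
      conj_mem_adj_loc S (mem_loc_of_adj hk.2) hk'.2⟩
  obtain ⟨six, hline⟩ := cnt eW
  have iWe : i ∈ W ∩ adj D e := ⟨iW, FischerM22.adj_symm hiD ei'⟩
  obtain ⟨j₀, ⟨jW, je⟩, nij⟩ : ∃ j ∈ W ∩ adj D e, ¬ Commute i j := by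
    by_contra hcon
    have hsub : W ∩ adj D e ⊆ insert i (W ∩ adj D e ∩ adj D i) := fun p hp => by
      by_cases h : p = i
      · exact Or.inl h
      · exact Or.inr ⟨hp, hp.1.1.1.1.1.1, h, by_contra fun hc => hcon ⟨p, hp, hc⟩⟩
    have h1 := Set.ncard_le_ncard hsub (Set.toFinite _)
    have h2 := Set.ncard_insert_le i (W ∩ adj D e ∩ adj D i)
    rw [six] at h1
    rw [hline i iWe] at h2
    omega
  obtain ⟨h, hhW, chf, che, nhi⟩ : ∃ h ∈ W, Commute h f ∧ Commute h e ∧ ¬ Commute h i := by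
    by_cases hjf : Commute j₀ f
    · exact ⟨j₀, jW, hjf, je.2.2.symm, mt Commute.symm nij⟩
    obtain ⟨z, hz⟩ := Set.ncard_eq_one.1 ((cnt iW).2 e ⟨eW, ei'⟩)
    have hzm : z ∈ W ∩ adj D i ∩ adj D e := hz.symm ▸ Set.mem_singleton z
    have haD : a ∈ D := aS.1.1
    have xa := FischerM22.adj_symm hx aS.1
    have ya := FischerM22.adj_symm hy aS.2
    set m4 : Fin 4 → G := ![i, j₀, f, e] with hm4
    have hm4W : ∀ j, m4 j ∈ W := fun j => by fin_cases j <;> assumption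
    have hWa : ∀ p ∈ W, p ∈ adj D a := fun p hp => hp.1.1.2
    have p4 : ∀ j l, Commute (m4 j) (m4 l) ↔ pathMat 4 j l = 0 := by
      intro j l
      have q1 : Commute i f := fi.2.2
      have q2 : Commute i e := ei'.2.2
      have q3 : Commute j₀ e := je.2.2.symm
      fin_cases j <;> fin_cases l <;>
        simp [hm4, pathMat, Commute.refl, q1, q2, q3, q1.symm, q2.symm, q3.symm, nij, hjf, nef,
          mt Commute.symm nij, mt Commute.symm hjf, mt Commute.symm nef]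
    obtain ⟨_, ⟨h, hhW, rfl⟩, q2, q3, q0⟩ := FischerM22.third_point (S.localSetup haD)
      (qm_farPair S haD xa ya hxy) ((qm_common_iff S haD hac xa ya).2 cS) (qm D a '' W)
      (by
        rintro _ ⟨p, hp, rfl⟩
        exact ⟨(qm_common_iff S haD (hWa p hp) xa ya).2 hp.1.1.1, (qm_adj_iff S haD (hWa p hp) hac).2 hp.2⟩)
      (by
        rintro _ ⟨k, hk, rfl⟩ _ ⟨k', hk', rfl⟩
        exact ⟨_, hcl k hk k' hk', qm_conj (mem_loc_of_adj (hWa k hk)) (mem_loc_of_adj (hWa k' hk'))⟩)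
      (fun j => qm D a (m4 j)) (fun j => ⟨_, hm4W j, rfl⟩)
      (qm_pattern S haD (fun j => hWa _ (hm4W j)) p4) (z := qm D a z)
      ⟨⟨⟨z, hzm.1.1, rfl⟩, (qm_adj_iff S haD (hWa z hzm.1.1) (hWa i iW)).2 hzm.1.2⟩,
        (qm_adj_iff S haD (hWa z hzm.1.1) (hWa e eW)).2 hzm.2⟩
      (by
        rintro _ ⟨⟨⟨p, hp, rfl⟩, h1⟩, h2⟩
        have : p ∈ W ∩ adj D i ∩ adj D e := ⟨⟨hp, (qm_adj_iff S haD (hWa p hp) (hWa i iW)).1 h1⟩,
          (qm_adj_iff S haD (hWa p hp) (hWa e eW)).1 h2⟩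
        rw [hz, Set.mem_singleton_iff] at this
        rw [this])
    exact ⟨h, hhW, (qm_comm S haD (hWa h hhW) (hWa f fW)).1 q2, (qm_comm S haD (hWa h hhW) (hWa e eW)).1 q3,
      fun hc => q0 ((qm_comm S haD (hWa h hhW) (hWa i iW)).2 hc)⟩
  obtain ⟨⟨⟨hS', hha⟩, hhb⟩, hhc⟩ := id hhW
  have cif : Commute i f := fi.2.2
  have nhd : ¬ Commute h d := fun hc => by
    have hfD : f ∈ D := fS.1.1
    have hif : i ∈ adj D f := FischerM22.adj_symm hiD fi
    have hhf : h ∈ adj D f := ⟨hS'.1.1, (ne_of_commute cif.symm nhi).symm, chf.symm⟩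
    have xf := FischerM22.adj_symm hx fS.1
    have yf := FischerM22.adj_symm hy fS.2
    set m5 : Fin 4 → G := ![a, b, c, d] with hm5
    have hm5f : ∀ j, m5 j ∈ adj D f := fun j => by
      fin_cases j
      exacts [⟨aS.1.1, (ne_of_commute cbf.symm nab).symm, caf.symm⟩,
        ⟨bS.1.1, (ne_of_commute ccf.symm nbc).symm, cbf.symm⟩,
        ⟨cS.1.1, (ne_of_commute cdf.symm ncd).symm, ccf.symm⟩,
        ⟨dS.1.1, (ne_of_commute ccf.symm (mt Commute.symm ncd)).symm, cdf.symm⟩]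
    have := (qm_farPair S hfD xf yf hxy).a4_unique (S.localSetup hfD) (fun j => qm D f (m5 j))
      (fun j => (qm_common_iff S hfD (hm5f j) xf yf).2 (by fin_cases j <;> assumption))
      (qm_pattern S hfD hm5f (fun j l => by
        fin_cases j <;> fin_cases l <;>
          simp [hm5, pathMat, Commute.refl, cac, cad, cbd, cac.symm, cad.symm, cbd.symm, nab, nbc, ncd,
            mt Commute.symm nab, mt Commute.symm nbc, mt Commute.symm ncd]))
      ((qm_common_iff S hfD hhf xf yf).2 hS') ((qm_common_iff S hfD hif xf yf).2 hi)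
      (fun j => (qm_comm S hfD hhf (hm5f j)).2 (by
        fin_cases j
        exacts [hha.2.2.symm, hhb.2.2.symm, hhc.2.2.symm, hc]))
      (fun j => (qm_comm S hfD hif (hm5f j)).2 (by
        fin_cases j
        exacts [ai.2.2, bi.2.2, ci.2.2, di.2.2]))
    exact nhi ((qm_inj S hfD hhf hif this) ▸ Commute.refl i)
  have chg : Commute h g := by
    obtain ⟨n1, n2, -⟩ := neOf ned nef
    obtain ⟨aH, cH, gH⟩ := self_mem_hexG ax cx gx hT
    exact (hexG_kill S hx ax cx gx hT aH cH exH gH n_ac n1.symm n2.symm hS'.1 hha.2.2.symm hhc.2.2.symm che).symm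
  -- the frame
  have cga' : g ∈ adj D a := ⟨gi.1, n_ga, cga.symm⟩
  have cgb' : g ∈ adj D b := ⟨gi.1, (ne_of_commute cbf ngf).symm, cgb.symm⟩
  have dA : d ∈ adj D a := ⟨dS.1.1, ne_of_commute cbd.symm nab, cad⟩
  have dB : d ∈ adj D b := ⟨dS.1.1, ne_of_commute cad.symm (mt Commute.symm nab), cbd⟩
  set m6 : Fin 6 → G := ![i, h, d, e, f, g] with hm6
  have h6x : ∀ j, m6 j ∈ adj D x := fun j => by
    fin_cases j
    exacts [hi.1, hS'.1, dS.1, eS.1, fS.1, gx]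
  refine ⟨x, a, b, c, d, e, f, g, y, h, i, hx, ?_,
    ⟨qm_farPair S hx aS.1 bS.1 nab, fun j => ?_, fun j l => ?_, (qm_adj_iff S hx cS.1 aS.1).2 hac,
      fun hc => nbc ((qm_comm S hx bS.1 cS.1).1 hc), fun j => ?_⟩, hy, hxy, ngy, ?_⟩
  · simp only [List.forall_mem_cons, List.not_mem_nil, IsEmpty.forall_iff, implies_true, and_true]
    exact ⟨aS.1, bS.1, cS.1, dS.1, eS.1, fS.1, gx, hS'.1, hi.1⟩
  · have h : (![qm D x i, qm D x h, qm D x d, qm D x e, qm D x f, qm D x g] : Fin 6 → QL D x) j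
        = qm D x (m6 j) := by fin_cases j <;> rfl
    rw [h, qm_common_iff S hx (h6x j) aS.1 bS.1]
    fin_cases j
    exacts [⟨iW.1.1.2, iW.1.2⟩, ⟨hha, hhb⟩, ⟨dA, dB⟩, ⟨eW.1.1.2, eW.1.2⟩, ⟨fW.1.1.2, fW.1.2⟩, ⟨cga', cgb'⟩]
  · have h : ∀ j, (![qm D x i, qm D x h, qm D x d, qm D x e, qm D x f, qm D x g] : Fin 6 → QL D x) j
        = qm D x (m6 j) := fun j => by fin_cases j <;> rfl
    rw [h, h, qm_comm S hx (h6x j) (h6x l)]
    have q1 : Commute i d := di.2.2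
    have q2 : Commute i e := ei'.2.2
    have q3 : Commute i g := gi.2.2
    fin_cases j <;> fin_cases l <;>
      simp [hm6, pathMat, Commute.refl, q1, q2, q3, cif, cdf, ceg, chg, che, chf, cgd, q1.symm, q2.symm, q3.symm,
        cif.symm, cdf.symm, ceg.symm, chg.symm, che.symm, chf.symm, cgd.symm, nhi, nhd, ned, nef, ngf,
        mt Commute.symm nhi, mt Commute.symm nhd, mt Commute.symm ned, mt Commute.symm nef, mt Commute.symm ngf]
  · have h : (![qm D x i, qm D x h, qm D x d, qm D x e, qm D x f, qm D x g] : Fin 6 → QL D x) j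
        = qm D x (m6 j) := by fin_cases j <;> rfl
    rw [h, qm_comm S hx cS.1 (h6x j)]
    fin_cases j <;>
      simp [hm6, ncd, iW.2.2.2, hhc.2.2, ccf, cec.symm, cgc.symm]
  · simp only [List.forall_mem_cons, List.not_mem_nil, IsEmpty.forall_iff, implies_true, and_true]
    exact ⟨aS.2.2.2, bS.2.2.2, cS.2.2.2, dS.2.2.2, eS.2.2.2, fS.2.2.2, hS'.2.2.2, hi.2.2.2⟩

end Cfsg.Agent.FischerM23
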