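/-
The elements of order two in a group of type M(23).

Main results (namespace `Cfsg.Agent.FischerM23`):
* `involution_prod` : every element of order two is a product of at most three commuting members;
* `four_reduce` : a member times three commuting neighbours is the product of three members;
* `prod_conj`, `commuting_count`, `prod_order`, `prod_unique` : the three classes of elements of order two.
-/
import Cfsg.Agent.Lib.FischerM23.Total
import Cfsg.Agent.Lib.FischerM22.Involutions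

set_option autoImplicit false

namespace Cfsg.Agent.FischerM23

open Cfsg.Agent.ThreeTrans Cfsg.Agent.ThreeTransSU
open Cfsg.Agent.FischerM22 (adj_symm IsProd IsTriple isProd_one isProd_two isProd_three isProd_cases)

variable {G : Type*} [Group G] [Finite G] {D : Set G}

/-- Every element of order two commutes with a member. -/
theorem exists_fixed_member (S : Fi23Setup D) {x : G} (hx : x * x = 1) : ∃ a ∈ D, Commute x a := by
  classical
  by_contra hcon
  have hall : ∀ a ∈ D, ¬ Commute x a := fun a ha h => hcon ⟨a, ha, h⟩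
  have := Fintype.ofFinite G
  let T : Finset G := D.toFinset
  have hxi : x⁻¹ = x := inv_eq_of_mul_eq_one_left hx
  have hmem : ∀ a ∈ T, x * a * x ∈ T := fun a ha => by
    simp only [T, Set.mem_toFinset] at ha ⊢
    have := S.conj_mem x ha
    rwa [hxi] at this
  have heven : Even T.card := by
    have h1 : ∏ _a ∈ T, (-1 : ℤ) = 1 := by
      refine Finset.prod_involution (fun a _ => x * a * x) (fun a _ => by norm_num) (fun a ha _ e => ?_)
        hmem (fun a _ => by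
          calc x * (x * a * x) * x = x * x * a * (x * x) := by simp only [mul_assoc]
            _ = a := by rw [hx, one_mul, mul_one])
      refine hall a (by simpa [T] using ha) ?_
      show x * a = a * x
      calc x * a = x * a * (x * x) := by rw [hx, mul_one]
        _ = x * a * x * x := by simp only [mul_assoc]
        _ = a * x := by rw [e]
    rw [Finset.prod_const] at h1
    exact (neg_one_pow_eq_one_iff_even (by norm_num)).1 h1
  rw [show T.card = D.ncard from (Set.ncard_eq_toFinset_card' D).symm, class_ncard S] at heven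
  exact absurd heven (by decide)

/-- Three commuting neighbours of `a` extend to three others with product `a` times theirs. -/
theorem four_reduce (S : Fi23Setup D) {a p q r : G} (ha : a ∈ D) (hp : p ∈ adj D a) (hq : q ∈ adj D a)
    (hr : r ∈ adj D a) (hT : IsTriple D p q r) : IsProd D 3 (a * (p * q * r)) := by
  obtain ⟨-, -, -, n1, n2, n3, c1, c2, c3⟩ := hT
  have hS := S.localSetup ha
  have hD := S.cls.1
  obtain ⟨d', e', f', hnd, hmem, h⟩ := exists_other_triple hS.cls hS.cores hS.conn hS.type22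
    (qm_mem hp) (qm_mem hq) (qm_mem hr) (fun e => n1 (qm_inj S ha hp hq e))
    (fun e => n2 (qm_inj S ha hp hr e)) (fun e => n3 (qm_inj S ha hq hr e))
    ((qm_comm S ha hp hq).2 c1) ((qm_comm S ha hp hr).2 c2) ((qm_comm S ha hq hr).2 c3)
  have lift : ∀ {w}, w ∈ [qm D a p, qm D a q, qm D a r, d', e', f'] → ∃ y ∈ adj D a, qm D a y = w :=
    fun {w} hw => by
      have := ((hmem w).1 hw).1
      rwa [qset_eq] at this
  obtain ⟨d, hd, ed⟩ := lift (w := d') (by simp)
  obtain ⟨e, he, ee⟩ := lift (w := e') (by simp)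
  obtain ⟨f, hf, ef⟩ := lift (w := f') (by simp)
  subst ed ee ef
  have cc : ∀ {u v}, u ∈ adj D a → v ∈ adj D a →
      qm D a u ∈ [qm D a p, qm D a q, qm D a r, qm D a d, qm D a e, qm D a f] →
      qm D a v ∈ [qm D a p, qm D a q, qm D a r, qm D a d, qm D a e, qm D a f] → Commute u v :=
    fun hu hv h1 h2 => (qm_comm S ha hu hv).1 (hexSet_commute ((hmem _).1 h1) ((hmem _).1 h2))
  simp only [List.nodup_cons, List.mem_cons, List.not_mem_nil, or_false, not_or, List.nodup_nil,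
    and_true, not_false_eq_true] at hnd
  obtain ⟨⟨-, -, m1, m2, m3⟩, -, -, ⟨k1, k2⟩, k3⟩ := hnd
  have hT' : IsTriple D d e f := ⟨hd.1, he.1, hf.1, fun h => k1 (h ▸ rfl), fun h => k2 (h ▸ rfl),
    fun h => k3 (h ▸ rfl), cc hd he (by simp) (by simp), cc hd hf (by simp) (by simp),
    cc he hf (by simp) (by simp)⟩
  have lp := mem_loc_of_adj hp
  have lq := mem_loc_of_adj hq
  have lr := mem_loc_of_adj hr
  have ld := mem_loc_of_adj hd
  have le' := mem_loc_of_adj he
  have lf := mem_loc_of_adj hf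
  rw [← qm_mul lp lq, ← qm_mul (mul_mem lp lq) lr, ← qm_mul ld le', ← qm_mul (mul_mem ld le') lf,
    qm_of_mem (mul_mem (mul_mem lp lq) lr), qm_of_mem (mul_mem (mul_mem ld le') lf)] at h
  rcases mem_center_loc S ha (QuotientGroup.eq.1 h) with h1 | h1
  · exfalso
    rcases triple_mem S.cls S.cores.1 (adjSeparated S) hp.1 hq.1 hr.1 hd.1 he.1 hf.1 n1 n2 n3
      hT'.2.2.2.1 hT'.2.2.2.2.1 hT'.2.2.2.2.2.1 c1 c2 c3 hT'.2.2.2.2.2.2.1 hT'.2.2.2.2.2.2.2.1
      hT'.2.2.2.2.2.2.2.2 (inv_mul_eq_one.1 h1) with e1 | e1 | e1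
    exacts [m1 (e1 ▸ rfl), m2 (e1 ▸ rfl), m3 (e1 ▸ rfl)]
  · have h2 : d * e * f = p * q * r * a := inv_mul_eq_iff_eq_mul.1 h1
    rw [((hp.2.2.mul_right hq.2.2).mul_right hr.2.2).eq, ← h2]
    exact isProd_three hT'

/-- Every element of order two is the product of at most three commuting members. -/
theorem involution_prod (S : Fi23Setup D) {x : G} (hx : x * x = 1) (hx1 : x ≠ 1) :
    ∃ m, 1 ≤ m ∧ m ≤ 3 ∧ IsProd D m x := by
  obtain ⟨a, ha, hxa⟩ := exists_fixed_member S hx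
  have hxL : x ∈ Loc D a := by
    rw [← centralizer_eq_loc S ha]; exact Subgroup.mem_centralizer_singleton_iff.2 hxa
  by_cases hq1 : qm D a x = 1
  · rw [qm_of_mem hxL] at hq1
    rcases mem_center_loc S ha ((QuotientGroup.eq_one_iff _).1 hq1) with h | h
    · exact absurd h hx1
    · have hxa' : x = a := h
      exact ⟨1, le_rfl, by norm_num, hxa' ▸ isProd_one ha⟩
  have hS := S.localSetup ha
  have hsq : qm D a x * qm D a x = 1 := by
    rw [← qm_mul hxL hxL, hx, qm_of_mem (one_mem _)]; exact map_one _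
  obtain ⟨m, h1, h3, hm⟩ := FischerM22.involution_prod hS hsq hq1
  -- lift the members
  have lift : ∀ {y}, y ∈ QSet D a → ∃ z ∈ adj D a, qm D a z = y := fun {y} hy => by rwa [qset_eq] at hy
  have fin : ∀ {P : G}, P ∈ Loc D a → qm D a P = qm D a x → x = P ∨ x = a * P := fun {P} hP h => by
    rw [qm_of_mem hP, qm_of_mem hxL] at h
    rcases mem_center_loc S ha (QuotientGroup.eq.1 h) with h' | h'
    · exact Or.inl (inv_mul_eq_one.1 h').symm
    · exact Or.inr ((inv_mul_eq_iff_eq_mul.1 h').trans (commute_of_mem_Loc hP).eq)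
  rcases isProd_cases h1 h3 hm with ⟨rfl, hy⟩ | ⟨rfl, u, hu, v, hv, hxe⟩ | ⟨rfl, u, v, w, hT, hxe⟩
  · obtain ⟨z, hz, hze⟩ := lift hy
    rcases fin (mem_loc_of_adj hz) hze with rfl | rfl
    · exact ⟨1, le_rfl, by norm_num, isProd_one hz.1⟩
    · exact ⟨2, by norm_num, by norm_num, isProd_two ha hz⟩
  · obtain ⟨z₁, hz₁, rfl⟩ := lift hu
    obtain ⟨z₂, hz₂, rfl⟩ := lift hv.1
    have hne : z₂ ≠ z₁ := fun e => hv.2.1 (e ▸ rfl)
    have hc := (qm_comm S ha hz₁ hz₂).1 hv.2.2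
    have l1 := mem_loc_of_adj hz₁
    have l2 := mem_loc_of_adj hz₂
    rcases fin (mul_mem l1 l2) ((qm_mul l1 l2).trans hxe.symm) with rfl | rfl
    · exact ⟨2, by norm_num, by norm_num, isProd_two hz₁.1 ⟨hz₂.1, hne, hc⟩⟩
    · refine ⟨3, by norm_num, le_rfl, ?_⟩
      rw [← mul_assoc]
      exact isProd_three ⟨ha, hz₁.1, hz₂.1, hz₁.2.1.symm, hz₂.2.1.symm, hne.symm, hz₁.2.2, hz₂.2.2, hc⟩
  · obtain ⟨hu, hv, hw, n1, n2, n3, c1, c2, c3⟩ := hT
    obtain ⟨z₁, hz₁, rfl⟩ := lift hu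
    obtain ⟨z₂, hz₂, rfl⟩ := lift hv
    obtain ⟨z₃, hz₃, rfl⟩ := lift hw
    have hTz : IsTriple D z₁ z₂ z₃ := ⟨hz₁.1, hz₂.1, hz₃.1, fun e => n1 (e ▸ rfl), fun e => n2 (e ▸ rfl),
      fun e => n3 (e ▸ rfl), (qm_comm S ha hz₁ hz₂).1 c1, (qm_comm S ha hz₁ hz₃).1 c2,
      (qm_comm S ha hz₂ hz₃).1 c3⟩
    have l1 := mem_loc_of_adj hz₁
    have l2 := mem_loc_of_adj hz₂
    have l3 := mem_loc_of_adj hz₃
    rcases fin (mul_mem (mul_mem l1 l2) l3) (by rw [hxe, qm_mul (mul_mem l1 l2) l3, qm_mul l1 l2])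
      with rfl | rfl
    · exact ⟨3, by norm_num, le_rfl, isProd_three hTz⟩
    · exact ⟨3, by norm_num, le_rfl, four_reduce S ha hz₁ hz₂ hz₃ hTz⟩

theorem pair_conj (S : Fi23Setup D) {a b a' b' : G} (ha : a ∈ D) (hb : b ∈ adj D a) (ha' : a' ∈ D)
    (hb' : b' ∈ adj D a') : ∃ g, g * a * g⁻¹ = a' ∧ g * b * g⁻¹ = b' := by
  obtain ⟨g, rfl⟩ := class_conj S.cls ha ha'
  have hgb : g * b * g⁻¹ ∈ adj D (g * a * g⁻¹) := by
    rw [adj_conj_image S.grp.2.1]; exact ⟨b, hb, rfl⟩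
  obtain ⟨k, hk, hke⟩ := loc_transitive S.cls S.two_members S.cores ha' hgb hb'
  refine ⟨k * g, ?_, by rw [← hke]; group⟩
  rw [show k * g * a * (k * g)⁻¹ = k * (g * a * g⁻¹) * k⁻¹ by group]
  exact FischerM22.conj_eq_self_of_loc hk

theorem triple_conj (S : Fi23Setup D) {a b c a' b' c' : G} (h : IsTriple D a b c)
    (h' : IsTriple D a' b' c') : ∃ g, g * a * g⁻¹ = a' ∧ g * b * g⁻¹ = b' ∧ g * c * g⁻¹ = c' := by
  obtain ⟨ha, hb, hc, n1, n2, n3, c1, c2, c3⟩ := h
  obtain ⟨g, rfl⟩ := class_conj S.cls ha h'.1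
  obtain ⟨-, hb', hc', m1, m2, m3, d1, d2, d3⟩ := h'
  have mv : ∀ {u}, u ∈ adj D a → g * u * g⁻¹ ∈ adj D (g * a * g⁻¹) := fun {u} hu => by
    rw [adj_conj_image S.grp.2.1]; exact ⟨u, hu, rfl⟩
  obtain ⟨k, hk, e1, e2⟩ := trans_commuting S (S.conj_mem g ha) (mv ⟨hb, n1.symm, c1⟩)
    (mv ⟨hc, n2.symm, c2⟩) (fun e => n3 (mul_left_cancel (mul_right_cancel e)))
    (c3.map (MulAut.conj g).toMonoidHom) ⟨hb', m1.symm, d1⟩ ⟨hc', m2.symm, d2⟩ m3 d3
  refine ⟨k * g, ?_, by rw [← e1]; group, by rw [← e2]; group⟩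
  rw [show k * g * a * (k * g)⁻¹ = k * (g * a * g⁻¹) * k⁻¹ by group]
  exact FischerM22.conj_eq_self_of_loc hk

theorem prod_conj (S : Fi23Setup D) {m : ℕ} {x y : G} (h1 : 1 ≤ m) (h3 : m ≤ 3) (hx : IsProd D m x)
    (hy : IsProd D m y) : IsConj x y := by
  rw [isConj_iff]
  rcases isProd_cases h1 h3 hx with ⟨rfl, hx'⟩ | ⟨rfl, a, ha, b, hb, rfl⟩ | ⟨rfl, a, b, c, hT, rfl⟩ <;>
    rcases isProd_cases h1 h3 hy with ⟨e, hy'⟩ | ⟨e, a', ha', b', hb', rfl⟩ | ⟨e, a', b', c', hT', rfl⟩ <;>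
    first
      | omega
      | exact class_conj S.cls hx' hy'
      | (obtain ⟨g, k1, k2⟩ := pair_conj S ha hb ha' hb'
         exact ⟨g, by rw [← k1, ← k2]; group⟩)
      | (obtain ⟨g, k1, k2, k3⟩ := triple_conj S hT hT'
         exact ⟨g, by rw [← k1, ← k2, ← k3]; group⟩)

/-- The number of members commuting with a product determines the number of its factors. -/
theorem commuting_count (S : Fi23Setup D) {m : ℕ} {x : G} (h1 : 1 ≤ m) (h3 : m ≤ 3) (h : IsProd D m x) :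
    (m = 1 ∧ {e | e ∈ D ∧ Commute e x}.ncard = 3511) ∨ (m = 2 ∧ {e | e ∈ D ∧ Commute e x}.ncard = 695) ∨
      (m = 3 ∧ {e | e ∈ D ∧ Commute e x}.ncard = 183) := by
  have hD := S.cls.1
  rcases isProd_cases h1 h3 h with ⟨rfl, hx⟩ | ⟨rfl, a, ha, b, hb, rfl⟩ | ⟨rfl, a, b, c, hT, rfl⟩
  · refine Or.inl ⟨rfl, ?_⟩
    rw [show {e | e ∈ D ∧ Commute e x} = insert x (adj D x) by
      ext e
      refine Iff.trans ?_ (adj_eq_iff_commute (D := D) (y := e) hx)
      exact and_congr_right fun _ => ⟨fun h => h.symm, fun h => h.symm⟩]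
    rw [Set.ncard_insert_of_notMem (fun h => h.2.1 rfl), adj_ncard S hx]
  · refine Or.inr (Or.inl ⟨rfl, ?_⟩)
    rw [show {e | e ∈ D ∧ Commute e (a * b)} = insert a (insert b (adj D a ∩ adj D b)) by
      ext e
      simp only [Set.mem_ofPred_eq, Set.mem_insert_iff]
      constructor
      · rintro ⟨he, hec⟩
        obtain ⟨ea, eb⟩ := (commute_mul_iff hD ha hb.1 he hb.2.1.symm hb.2.2).1 hec
        by_cases e1 : e = a
        · exact Or.inl e1
        by_cases e2 : e = b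
        · exact Or.inr (Or.inl e2)
        exact Or.inr (Or.inr ⟨⟨he, e1, ea.symm⟩, he, e2, eb.symm⟩)
      · rintro (rfl | rfl | ⟨p, q⟩)
        exacts [⟨ha, (Commute.refl _).mul_right hb.2.2⟩, ⟨hb.1, hb.2.2.symm.mul_right (Commute.refl _)⟩,
          ⟨p.1, p.2.2.symm.mul_right q.2.2.symm⟩]]
    rw [Set.ncard_insert_of_notMem (by
        rintro (e | ⟨p, -⟩)
        exacts [hb.2.1 e.symm, p.2.1 rfl]),
      Set.ncard_insert_of_notMem (fun h => h.2.2.1 rfl), common_ncard S ha hb]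
  · obtain ⟨ha, hb, hc, n1, n2, n3, c1, c2, c3⟩ := hT
    refine Or.inr (Or.inr ⟨rfl, ?_⟩)
    rw [show {e | e ∈ D ∧ Commute e (a * b * c)} =
        insert a (insert b (insert c (adj D a ∩ adj D b ∩ adj D c))) by
      ext e
      simp only [Set.mem_ofPred_eq, Set.mem_insert_iff]
      constructor
      · rintro ⟨he, hec⟩
        obtain ⟨ea, eb, ec⟩ := (commute_mul_three_iff hD ha hb hc he n1 n2 n3 c1 c2 c3).1 hec
        by_cases e1 : e = a
        · exact Or.inl e1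
        by_cases e2 : e = b
        · exact Or.inr (Or.inl e2)
        by_cases e3 : e = c
        · exact Or.inr (Or.inr (Or.inl e3))
        exact Or.inr (Or.inr (Or.inr ⟨⟨⟨he, e1, ea.symm⟩, he, e2, eb.symm⟩, he, e3, ec.symm⟩))
      · rintro (rfl | rfl | rfl | ⟨⟨p, q⟩, r⟩)
        exacts [⟨ha, ((Commute.refl _).mul_right c1).mul_right c2⟩,
          ⟨hb, (c1.symm.mul_right (Commute.refl _)).mul_right c3⟩,
          ⟨hc, (c2.symm.mul_right c3.symm).mul_right (Commute.refl _)⟩,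
          ⟨p.1, (p.2.2.symm.mul_right q.2.2.symm).mul_right r.2.2.symm⟩]]
    rw [Set.ncard_insert_of_notMem (by
        rintro (e | e | ⟨⟨p, -⟩, -⟩)
        exacts [n1 e, n2 e, p.2.1 rfl]),
      Set.ncard_insert_of_notMem (by
        rintro (e | ⟨⟨-, q⟩, -⟩)
        exacts [n3 e, q.2.1 rfl]),
      Set.ncard_insert_of_notMem (fun h => h.2.2.1 rfl),
      triple_ncard S ha ⟨hb, n1.symm, c1⟩ ⟨hc, n2.symm, c2⟩ n3 c3]

theorem prod_unique (S : Fi23Setup D) {m m' : ℕ} {x : G} (h1 : 1 ≤ m) (h3 : m ≤ 3) (h1' : 1 ≤ m') (h3' : m' ≤ 3)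
    (h : IsProd D m x) (h' : IsProd D m' x) : m = m' := by
  have := commuting_count S h1 h3 h
  have := commuting_count S h1' h3' h'
  omega

theorem prod_ne_one (S : Fi23Setup D) {m : ℕ} {x : G} (h1 : 1 ≤ m) (h3 : m ≤ 3) (h : IsProd D m x) : x ≠ 1 := by
  rintro rfl
  have h' := commuting_count S h1 h3 h
  rw [show {e | e ∈ D ∧ Commute e (1 : G)} = D by ext e; simp, class_ncard S] at h'
  omega

theorem prod_order (S : Fi23Setup D) {m : ℕ} {x : G} (h1 : 1 ≤ m) (h3 : m ≤ 3) (h : IsProd D m x) :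
    orderOf x = 2 := by
  refine orderOf_eq_prime ?_ (prod_ne_one S h1 h3 h)
  obtain ⟨l, -, -, hD, hc, rfl⟩ := h
  clear h1 h3
  induction l with
  | nil => simp
  | cons a l ih =>
    rw [List.prod_cons, (Commute.list_prod_right l a fun y hy => hc a (by simp) y (by simp [hy])).mul_pow,
      ih (fun y hy => hD y (by simp [hy])) (fun y hy z hz => hc y (by simp [hy]) z (by simp [hz])), pow_two,
      mul_self S.cls.1 (hD a (by simp)), one_mul]

theorem exists_isProd (S : Fi23Setup D) {m : ℕ} (h1 : 1 ≤ m) (h3 : m ≤ 3) : ∃ x : G, IsProd D m x := by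
  obtain ⟨a, ha, -⟩ := S.two_members
  obtain ⟨b, hb⟩ := S.adj_nonempty ha
  obtain ⟨c, hc, hc'⟩ : (adj D a ∩ adj D b).Nonempty := by
    rw [← Set.ncard_pos (Set.toFinite _), common_ncard S ha hb]; norm_num
  rcases (by omega : m = 1 ∨ m = 2 ∨ m = 3) with rfl | rfl | rfl
  exacts [⟨a, isProd_one ha⟩, ⟨_, isProd_two ha hb⟩,
    ⟨_, isProd_three ⟨ha, hb.1, hc.1, hb.2.1.symm, hc.2.1.symm, hc'.2.1.symm, hb.2.2, hc.2.2, hc'.2.2⟩⟩]

end Cfsg.Agent.FischerM23
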