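/-
Uniqueness of the class of 3-transpositions in a group of type M(23).

Main results (namespace `Cfsg.Agent.FischerM23`):
* `exists_bad_products` : for `m = 2, 3` two products of `m` members have product of order above three;
* `class_unique` : a class of 3-transpositions equals `D`.
-/
import Cfsg.Agent.Lib.FischerM23.Involutions
import Cfsg.Agent.Lib.FischerM22.Unique

set_option autoImplicit false

namespace Cfsg.Agent.FischerM23

open Cfsg.Agent.ThreeTrans Cfsg.Agent.ThreeTransSU
open Cfsg.Agent.FischerM22 (IsProd isProd_one isProd_cases)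

variable {G : Type*} [Group G] [Finite G] {D : Set G}

theorem exists_bad_products (S : Fi23Setup D) {m : ℕ} (h2 : 2 ≤ m) (h3 : m ≤ 3) :
    ∃ x y : G, IsProd D m x ∧ IsProd D m y ∧ (x * y) ^ 2 ≠ 1 ∧ (x * y) ^ 3 ≠ 1 := by
  obtain ⟨a, ha, -⟩ := S.two_members
  obtain ⟨x', y', hx', hy', n2, n3⟩ := FischerM22.exists_bad_products (S.localSetup ha) h2 h3
  have lift : ∀ {w}, IsProd (QSet D a) m w →
      ∃ x : ↥(Loc D a), toQ ↥(Loc D a) x = w ∧ IsProd D m (x : G) := by
    intro w ⟨l, hn, hlen, hD, hc, hw⟩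
    have hl : ∀ l : List (QL D a), (∀ y ∈ l, y ∈ QSet D a) →
        ∃ l' : List ↥(Loc D a), (∀ z ∈ l', z ∈ locSet D a) ∧ l'.map (toQ ↥(Loc D a)) = l := by
      intro l
      induction l with
      | nil => exact fun _ => ⟨[], by simp, rfl⟩
      | cons y l ih =>
        intro hy
        obtain ⟨z, hz, e⟩ := hy y List.mem_cons_self
        obtain ⟨l', k1, k2⟩ := ih fun z hz => hy z (List.mem_cons_of_mem _ hz)
        refine ⟨z :: l', fun z' hz' => ?_, by rw [List.map_cons, e, k2]⟩
        rcases List.mem_cons.1 hz' with rfl | hz'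
        exacts [hz, k1 z' hz']
    obtain ⟨l', k1, rfl⟩ := hl l hD
    refine ⟨l'.prod, by rw [map_list_prod, hw], l'.map Subtype.val, ?_, ?_, ?_, ?_, ?_⟩
    · exact (List.Nodup.of_map _ hn).map Subtype.val_injective
    · simpa using hlen
    · intro z hz
      obtain ⟨z', hz', rfl⟩ := List.mem_map.1 hz
      exact (k1 z' hz').1
    · intro z hz u hu
      obtain ⟨z', hz', rfl⟩ := List.mem_map.1 hz
      obtain ⟨u', hu', rfl⟩ := List.mem_map.1 hu
      exact commute_coe_iff.1 (commute_of_commute_mk (S.loc_cls ha) (S.loc_two ha) (k1 z' hz') (k1 u' hu')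
        (hc _ (List.mem_map_of_mem hz') _ (List.mem_map_of_mem hu')))
    · rw [Subgroup.val_list_prod]
  obtain ⟨x, rfl, hx⟩ := lift hx'
  obtain ⟨y, rfl, hy⟩ := lift hy'
  refine ⟨x, y, hx, hy, fun h => n2 ?_, fun h => n3 ?_⟩ <;>
    (rw [← map_mul, ← map_pow]; exact (congrArg _ (Subtype.ext h : _ = (1 : ↥(Loc D a)))).trans (map_one _))

/-- The only class of 3-transpositions. -/
theorem class_unique (S : Fi23Setup D) {D' : Set G} (hD' : Cfsg.IsThreeTranspositionClass D') : D' = D := by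
  obtain ⟨y, hy, -⟩ := hD'.2.1
  obtain ⟨m, h1, h3, hm⟩ := involution_prod S (mul_self hD'.1 hy) (ne_one hD'.1 hy)
  have mem : ∀ {x : G}, IsProd D m x → x ∈ D' := fun hx => by
    obtain ⟨g, rfl⟩ := isConj_iff.1 (prod_conj S h1 h3 hm hx)
    exact (group_of_class hD').2.1 g y hy
  rcases (by omega : m = 1 ∨ 2 ≤ m) with rfl | h2
  · have hyD : y ∈ D := by
      obtain ⟨-, h⟩ | ⟨h, -⟩ | ⟨h, -⟩ := isProd_cases h1 h3 hm
      exacts [h, by omega, by omega]
    ext x
    constructor
    · intro hx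
      obtain ⟨g, rfl⟩ := class_conj hD' hy hx
      exact S.conj_mem g hyD
    · exact fun hx => mem (isProd_one hx)
  · obtain ⟨p, q, hp, hq, n2, n3⟩ := exists_bad_products S h2 h3
    exact ((hD'.1.2 p (mem hp) q (mem hq)).elim n2 n3).elim

end Cfsg.Agent.FischerM23
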