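/-
A group of type M(23) is the presented Fischer group Fi23.

Main results (namespace `Cfsg.Agent.FischerM23`):
* `Y342.facts`, `Y342.rel_spider`, `Y342.rel_a` : the relators hold in a frame;
* `iso_fi23` : a group of type M(23) is isomorphic to `Spor.Fi23`;
* `exists_iso` : two groups of type M(23) are isomorphic by a map carrying class to class.
-/
import Cfsg.Agent.Lib.FischerM23.Frame23
import Cfsg.Agent.Lib.FischerM23.Unique
import Cfsg.Agent.Lib.FischerM22.Relators
import Cfsg.Agent.S1697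

set_option autoImplicit false

namespace Cfsg.Agent.FischerM23

open Cfsg.Agent.ThreeTrans Cfsg.Agent.ThreeTransSU

variable {G : Type*} [Group G] [Finite G] {D : Set G} {x a b c d e f g j h i : G}

namespace Y342

theorem facts (Q : Y342 D x a b c d e f g j h i) (S : Fi23Setup D) :
    (Commute a c ∧ Commute a d ∧ Commute a e ∧ Commute a f ∧ Commute a g ∧ Commute a h ∧ Commute a i) ∧
    (Commute b d ∧ Commute b e ∧ Commute b f ∧ Commute b g ∧ Commute b h ∧ Commute b i) ∧
    (Commute c e ∧ Commute c f ∧ Commute c g ∧ Commute c h ∧ Commute c i) ∧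
    (Commute d f ∧ Commute d g ∧ Commute d i) ∧
    (Commute e g ∧ Commute e h ∧ Commute e i) ∧ (Commute f h ∧ Commute f i) ∧ (Commute g h ∧ Commute g i) ∧
    (¬ Commute a b ∧ ¬ Commute b c ∧ ¬ Commute c d ∧ ¬ Commute d e ∧ ¬ Commute d h ∧ ¬ Commute e f ∧
      ¬ Commute f g ∧ ¬ Commute h i) := by
  have m := Q.mem
  simp only [List.forall_mem_cons, List.not_mem_nil, IsEmpty.forall_iff, implies_true, and_true] at m
  obtain ⟨ma, mb, mc, md, me, mf, mg, mh, mi⟩ := m
  have key := Q.frame.facts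
  simpa only [qm_comm S Q.base, ma, mb, mc, md, me, mf, mg, mh, mi] using key

theorem memD (Q : Y342 D x a b c d e f g j h i) :
    a ∈ D ∧ b ∈ D ∧ c ∈ D ∧ d ∈ D ∧ e ∈ D ∧ f ∈ D ∧ g ∈ D ∧ h ∈ D ∧ i ∈ D := by
  have m := Q.mem
  simp only [List.forall_mem_cons, List.not_mem_nil, IsEmpty.forall_iff, implies_true, and_true] at m
  exact ⟨m.1.1, m.2.1.1, m.2.2.1.1, m.2.2.2.1.1, m.2.2.2.2.1.1, m.2.2.2.2.2.1.1, m.2.2.2.2.2.2.1.1,
    m.2.2.2.2.2.2.2.1.1, m.2.2.2.2.2.2.2.2.1⟩

/-- A word killed in the local quotient at `x` and commuting with `j` is trivial. -/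
theorem eq_one (Q : Y342 D x a b c d e f g j h i) (S : Fi23Setup D) {w : G} (hw : w ∈ Loc D x)
    (h1 : qm D x w = 1) (hj : Commute j w) : w = 1 := by
  rw [qm_of_mem hw] at h1
  rcases (mem_center_loc_iff S Q.base _).1 ((QuotientGroup.eq_one_iff _).1 h1) with h | h
  · exact h
  · exact absurd (show Commute x j from h ▸ hj.symm) Q.far

theorem qm_pow {w : G} (hw : w ∈ Loc D x) (n : ℕ) : qm D x (w ^ n) = qm D x w ^ n := by
  rw [qm_of_mem (pow_mem hw n), qm_of_mem hw, ← map_pow]
  rfl

theorem rel_spider (Q : Y342 D x a b c d e f g j h i) (S : Fi23Setup D) :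
    (d * c * b * d * e * f * d * h * i) ^ 10 = 1 := by
  have L := fun k (hk : k ∈ [a, b, c, d, e, f, g, h, i]) => mem_loc_of_adj (Q.mem k hk)
  have la := L a (by simp); have lb := L b (by simp); have lc := L c (by simp); have ld := L d (by simp)
  have le := L e (by simp); have lf := L f (by simp); have lh := L h (by simp); have li := L i (by simp)
  have l1 := mul_mem ld lc
  have l2 := mul_mem l1 lb
  have l3 := mul_mem l2 ld
  have l4 := mul_mem l3 le
  have l5 := mul_mem l4 lf
  have l6 := mul_mem l5 ld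
  have l7 := mul_mem l6 lh
  have l8 := mul_mem l7 li
  refine Q.eq_one S (pow_mem l8 _) ?_ (Commute.pow_right ?_ _)
  · rw [qm_pow l8, qm_mul l7 li, qm_mul l6 lh, qm_mul l5 ld, qm_mul l4 lf, qm_mul l3 le, qm_mul l2 ld,
      qm_mul l1 lb, qm_mul ld lc]
    exact Q.frame.rel_spider (S.localSetup Q.base)
  · have J := Q.jcomm
    simp only [List.forall_mem_cons, List.not_mem_nil, IsEmpty.forall_iff, implies_true, and_true] at J
    obtain ⟨-, jb, jc, jd, je, jf, jh, ji⟩ := J
    exact (((((((jd.mul_right jc).mul_right jb).mul_right jd).mul_right je).mul_right jf).mul_right jd).mul_right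
      jh).mul_right ji

theorem rel_a (Q : Y342 D x a b c d e f g j h i) (S : Fi23Setup D) :
    (a * b * c * d * e * f * h) ^ 9 = 1 := by
  have L := fun k (hk : k ∈ [a, b, c, d, e, f, g, h, i]) => mem_loc_of_adj (Q.mem k hk)
  have la := L a (by simp); have lb := L b (by simp); have lc := L c (by simp); have ld := L d (by simp)
  have le := L e (by simp); have lf := L f (by simp); have lh := L h (by simp)
  have l1 := mul_mem la lb
  have l2 := mul_mem l1 lc
  have l3 := mul_mem l2 ld
  have l4 := mul_mem l3 le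
  have l5 := mul_mem l4 lf
  have l6 := mul_mem l5 lh
  refine Q.eq_one S (pow_mem l6 _) ?_ (Commute.pow_right ?_ _)
  · rw [qm_pow l6, qm_mul l5 lh, qm_mul l4 lf, qm_mul l3 le, qm_mul l2 ld, qm_mul l1 lc, qm_mul la lb]
    exact Q.frame.rel_a (S.localSetup Q.base)
  · have J := Q.jcomm
    simp only [List.forall_mem_cons, List.not_mem_nil, IsEmpty.forall_iff, implies_true, and_true] at J
    obtain ⟨ja, jb, jc, jd, je, jf, jh, -⟩ := J
    exact (((((ja.mul_right jb).mul_right jc).mul_right jd).mul_right je).mul_right jf).mul_right jh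

end Y342

/-- The assignment of a frame to the generators. -/
def frameGen (a b c d e f g j h i : G) : Cfsg.Spor.Fi23.Gen → G
  | .a => a
  | .b => b
  | .c => c
  | .d => d
  | .e => e
  | .f => f
  | .g => g
  | .j => j
  | .h => h
  | .i => i

theorem frame_relators (S : Fi23Setup D) (Q : Y342 D x a b c d e f g j h i) :
    ∀ r ∈ Cfsg.Spor.coxRelators Cfsg.Spor.Fi23.edges ∪ {r | r ∈ Cfsg.Spor.Fi23.extra},
      FreeGroup.lift (frameGen a b c d e f g j h i) r = 1 := by
  obtain ⟨⟨ac, ad, ae, af, ag, ah, ai⟩, ⟨bd, be, bf, bg, bh, bi⟩, ⟨ce, cf, cg, ch, ci⟩, ⟨df, dg, di⟩,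
    ⟨eg, eh, ei⟩, ⟨fh, fi⟩, ⟨gh, gi⟩, nab, nbc, ncd, nde, ndh, nef, nfg, nhi⟩ := Q.facts S
  obtain ⟨aD, bD, cD, dD, eD, fD, gD, hD, iD⟩ := Q.memD
  have jD := Q.jD
  have ngj := Q.jg
  have J := Q.jcomm
  simp only [List.forall_mem_cons, List.not_mem_nil, IsEmpty.forall_iff, implies_true, and_true] at J
  obtain ⟨ja, jb, jc, jd, je, jf, jh, ji⟩ := J
  rintro r (⟨p, -, q, -, rfl⟩ | hr)
  · rw [map_pow, map_mul, FreeGroup.lift_apply_of, FreeGroup.lift_apply_of]
    have h2 : ∀ {p q : G}, p ∈ D → q ∈ D → Commute p q → (p * q) ^ 2 = 1 := fun hp hq hc =>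
      (commute_iff_sq S.cls.1 hp hq).1 hc
    have h3 : ∀ {p q : G}, p ∈ D → q ∈ D → ¬ Commute p q → (p * q) ^ 3 = 1 := fun hp hq hc =>
      pow_three_of_not_commute S.cls.1 hp hq hc
    cases p <;> cases q <;>
      simp only [Cfsg.Spor.coxLabel, Cfsg.Spor.Fi23.edges, List.find?_cons, List.find?_nil, decide_true,
        decide_false, and_true, true_and, and_false, false_and, or_false, false_or, or_true, true_or, reduceCtorEq,
        reduceIte, frameGen, Bool.false_eq_true] <;>
      first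
        | (rw [pow_one]; exact mul_self S.cls.1 (by assumption))
        | exact h2 (by assumption) (by assumption) (by first | assumption | exact Commute.symm (by assumption))
        | exact h3 (by assumption) (by assumption) (by first | assumption | exact mt Commute.symm (by assumption))
  · simp only [Cfsg.Spor.Fi23.extra, Set.mem_ofPred_eq, List.mem_cons, List.not_mem_nil, or_false] at hr
    rcases hr with rfl | rfl <;>
      simp only [map_pow, map_mul, FreeGroup.lift_apply_of, frameGen]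
    exacts [Q.rel_spider S, Q.rel_a S]

/-- The map of the presented group given by a frame. -/
noncomputable def frameHom (S : Fi23Setup D) (Q : Y342 D x a b c d e f g j h i) : Cfsg.Spor.Fi23 →* G :=
  PresentedGroup.toGroup (frame_relators S Q)

/-- A group of type M(23) is isomorphic to the presented group Fi23. -/
theorem iso_fi23 (S : Fi23Setup D) : Nonempty (G ≃* Cfsg.Spor.Fi23) := by
  obtain ⟨hs, hcard⟩ := Cfsg.Agent.S1697.result
  obtain ⟨x, a, b, c, d, e, f, g, j, h, i, Q⟩ := exists_frame S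
  haveI := hs
  have : Finite Cfsg.Spor.Fi23 := Nat.finite_of_card_ne_zero (by rw [hcard]; norm_num)
  set φ := frameHom S Q with hφ
  have hinj : Function.Injective φ := by
    rw [← MonoidHom.ker_eq_bot_iff]
    refine (hs.eq_bot_or_eq_top_of_normal φ.ker inferInstance).resolve_right fun htop => ?_
    have h1 : φ (PresentedGroup.of Cfsg.Spor.Fi23.Gen.j) = 1 := by
      rw [← MonoidHom.mem_ker, htop]; exact Subgroup.mem_top _
    rw [hφ, frameHom, PresentedGroup.toGroup.of] at h1
    exact ne_one S.cls.1 Q.jD h1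
  have hbij : Function.Bijective φ :=
    (Nat.bijective_iff_injective_and_card φ).2 ⟨hinj, by rw [hcard, group_card S]⟩
  exact ⟨(MulEquiv.ofBijective φ hbij).symm⟩

/-- Two groups of type M(23) are isomorphic by a map carrying class to class. -/
theorem exists_iso {G₂ : Type*} [Group G₂] [Finite G₂] {D₂ : Set G₂} (S : Fi23Setup D) (S₂ : Fi23Setup D₂) :
    ∃ e : G ≃* G₂, e '' D = D₂ := by
  obtain ⟨e₁⟩ := iso_fi23 S
  obtain ⟨e₂⟩ := iso_fi23 S₂
  set e := e₁.trans e₂.symm with he
  refine ⟨e, class_unique S₂ ?_⟩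
  obtain ⟨⟨ho, hp⟩, ⟨x, hx, hcl⟩, hgen⟩ := S.cls
  refine ⟨⟨?_, ?_⟩, ⟨e x, ⟨x, hx, rfl⟩, ?_⟩, ?_⟩
  · rintro _ ⟨y, hy, rfl⟩
    rw [MulEquiv.orderOf_eq]; exact ho y hy
  · rintro _ ⟨y, hy, rfl⟩ _ ⟨z, hz, rfl⟩
    exact (hp y hy z hz).imp (fun h => by rw [← map_mul, ← map_pow, h, map_one])
      (fun h => by rw [← map_mul, ← map_pow, h, map_one])
  · ext q
    obtain ⟨q, rfl⟩ := e.surjective q
    show e q ∈ e '' _ ↔ IsConj (e x) (e q)
    rw [e.injective.mem_set_image, hcl]
    refine ⟨fun h => e.toMonoidHom.map_isConj h, fun h => ?_⟩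
    have h1 := e.symm.toMonoidHom.map_isConj h
    simp only [MulEquiv.coe_toMonoidHom, MulEquiv.symm_apply_apply] at h1
    exact h1
  · have h1 := MonoidHom.map_closure e.toMonoidHom D
    rw [hgen, Subgroup.map_top_of_surjective _ e.surjective] at h1
    exact h1.symm

end Cfsg.Agent.FischerM23
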