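/-
The normaliser of the product of two non-commuting members in a group of type M(23).

Main results (namespace `Cfsg.Agent.FischerM23`):
* `refl_seven` : a projective reflection group in dimension seven of order at most that of the simple group
  is the orthogonal group `POmega` of the standard odd form;
* `closure_common_omega` : the common neighbours generate the centraliser of the pair, a copy of `POmega(7, 3)`;
* `lineCtx` : the hypotheses of `ThreeTrans.Line`;
* `width_common` : at most 7 common neighbours commute pairwise, and 7 occur.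
-/
import Cfsg.Agent.Lib.FischerM23.Total
import Cfsg.Agent.Lib.FischerM22.LineNorm
import Cfsg.Agent.Lib.ThreeTrans.LineNorm
import Cfsg.Agent.Lib.OrthBN.PlusFour
import Cfsg.Agent.Lib.Orth.Models
import Cfsg.Agent.Lib.Orth.Order

set_option autoImplicit false

namespace Cfsg.Agent.FischerM23

open Cfsg.Agent.ThreeTrans Cfsg.Agent.ThreeTransSU
open Cfsg.Agent.FischerM22 (adj_symm card_orbit_mul commute_of_conj)

/-- A projective reflection group in dimension seven that is not larger than the simple group. -/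
theorem refl_seven {X : Type*} [Group X] {μ c : ZMod 3} (hc : c ≠ 0)
    (h : Cfsg.IsProjReflectionGroupModThree X 7 μ c) (hle : Nat.card X ≤ 4585351680) :
    Nat.card X = 4585351680 ∧ Nonempty (X ≃* Cfsg.POmega (ZMod 3) (Cfsg.quadFormOdd 3 (ZMod 3))) := by
  obtain ⟨Q, hQ, -, ⟨e⟩⟩ := h
  have hn : 5 ≤ Fintype.card (Fin 7) := by simp
  have hG := good_three hQ
  have h2 : (2 : ZMod 3) ≠ 0 := by decide
  rw [Nat.card_congr e.toEquiv] at hle ⊢
  set R := Cfsg.reflectionSubgroup (⇑Q) c with hR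
  set Ω := Cfsg.Omega (ZMod 3) ⇑Q with hΩ
  have hZΩ : Subgroup.center ↥Ω = ⊥ := by
    refine Orth.center_omega_eq_bot hQ (by simp) (Orth.eichGen_le_omega hG.nd (by simp) (.inr hn))
      (.inl fun h => ?_)
    have h1 := ((Orth.mem_omega_iff hG _).1 h).1
    rw [Orth.dick_negOne Q h2] at h1
    simp at h1
  -- the order of the simple group
  obtain ⟨-, c', f, hc', hf⟩ := Forms.classify_odd Q hQ (m := 3) (by simp)
  let iso := (Forms.isometryGroupEquiv (Cfsg.quadFormOdd 3 (ZMod 3))).trans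
    ((Forms.preservingFunCongr (Cfsg.quadFormOdd 3 (ZMod 3)) (⇑Q) f c' hc' fun v => by
      rw [hf, Forms.qfOdd_apply]).trans (Forms.isometryGroupEquiv (⇑Q)).symm)
  have hO : Nat.card (Orth.IsoGrp Q) = 4 * 4585351680 := by
    rw [← Nat.card_congr iso.toEquiv, S0286.result (ZMod.card 3) (by decide) 3]
    simp [Finset.prod_range_succ]
  have hΩc : Nat.card ↥Ω = 4585351680 := by
    have h := Subgroup.card_mul_index Ω
    rw [hΩ, Orth.omega_index_odd hG (by simp) h2, hO, ← hΩ] at h
    omega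
  let ψ : ↥Ω →* ↥R ⧸ Subgroup.center ↥R :=
    (QuotientGroup.mk' _).comp (Subgroup.inclusion (omega_le_reflSub hQ hn hc))
  have hψ : Function.Injective ψ := by
    refine (injective_iff_map_eq_one _).2 fun w hw => ?_
    have hwc : Subgroup.inclusion (omega_le_reflSub hQ hn hc) w ∈ Subgroup.center ↥R :=
      (QuotientGroup.eq_one_iff _).1 hw
    refine Subgroup.mem_bot.1 (hZΩ.le (Subgroup.mem_center_iff.2 fun u => Subtype.ext ?_))
    have hu := Subgroup.mem_center_iff.1 hwc (Subgroup.inclusion (omega_le_reflSub hQ hn hc) u)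
    exact congrArg (fun t : ↥R => (t : Orth.IsoGrp Q)) hu
  have hcard : Nat.card (↥R ⧸ Subgroup.center ↥R) = 4585351680 :=
    le_antisymm hle (hΩc ▸ Nat.card_le_card_of_injective ψ hψ)
  obtain ⟨g⟩ := OrthBN.pomega_congr iso
  exact ⟨hcard, ⟨((e.trans (MulEquiv.ofBijective ψ (hψ.bijective_of_nat_card_le (by rw [hcard, hΩc]))).symm).trans
    (QuotientGroup.quotientBot.symm.trans (QuotientGroup.quotientMulEquivOfEq hZΩ.symm))).trans g.symm⟩⟩

variable {G : Type*} [Group G] [Finite G] {D : Set G}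

/-- The joint centraliser of two non-commuting members. -/
theorem pair_centralizer_ncard (S : Fi23Setup D) {a d : G} (ha : a ∈ D) (hd : d ∈ D) (had : ¬ Commute a d) :
    Nat.card ↥(Subgroup.centralizer ({a} : Set G) ⊓ Subgroup.centralizer {d}) = 4585351680 := by
  have h := card_orbit_mul (Subgroup.centralizer ({a} : Set G)) d d
  have e : {p : G × G | ∃ g ∈ Subgroup.centralizer ({a} : Set G), g * d * g⁻¹ = p.1 ∧ g * d * g⁻¹ = p.2}
      = (fun x : G => (x, x)) '' {y | y ∈ D ∧ ¬ Commute a y} := by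
    ext ⟨u, w⟩
    constructor
    · rintro ⟨g, hg, rfl, rfl⟩
      refine ⟨_, ⟨S.conj_mem g hd, fun hc => had ?_⟩, rfl⟩
      have hga : g * a * g⁻¹ = a := by
        rw [Subgroup.mem_centralizer_singleton_iff.1 hg, mul_inv_cancel_right]
      exact commute_of_conj (g := g) (hga.symm ▸ hc)
    · rintro ⟨x, ⟨hx, hax⟩, e'⟩
      obtain ⟨rfl, rfl⟩ := Prod.ext_iff.1 e'
      obtain ⟨g, hg, rfl⟩ := centralizer_transitive S ha hd hx had hax
      exact ⟨g, Subgroup.mem_centralizer_singleton_iff.2 hg, rfl, rfl⟩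
  rw [e, Set.ncard_image_of_injective _ fun x y h => congrArg Prod.fst h, far_ncard S ha, inf_assoc,
    inf_idem] at h
  have h2 : Nat.card ↥(Subgroup.centralizer ({a} : Set G)) = 129123503308800 := by
    rw [centralizer_eq_loc S ha, loc_card S ha]
  omega

theorem closure_common_map (S : Fi23Setup D) (g a d : G) :
    (Subgroup.closure (common D a d)).map (MulAut.conj g).toMonoidHom
      = Subgroup.closure (common D (g * a * g⁻¹) (g * d * g⁻¹)) := by
  rw [MonoidHom.map_closure, common, common, adj_conj_image S.grp.2.1 g a, adj_conj_image S.grp.2.1 g d,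
    ← Set.image_inter (fun u v h => mul_left_cancel (mul_right_cancel h))]
  rfl

/-- The common neighbours of two non-commuting members generate their joint centraliser, which is
`POmega(7, 3)`. -/
theorem closure_common_omega (S : Fi23Setup D) {a d : G} (ha : a ∈ D) (hd : d ∈ D) (had : ¬ Commute a d) :
    Subgroup.closure (common D a d) = Subgroup.centralizer ({a} : Set G) ⊓ Subgroup.centralizer {d} ∧
      Nonempty (↥(Subgroup.closure (common D a d)) ≃*
        Cfsg.POmega (ZMod 3) (Cfsg.quadFormOdd 3 (ZMod 3))) := by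
  obtain ⟨-, d₁, hd₁, c₁, hc₁, hdc, -, c3, hc3, hR⟩ := S.type23
  change Cfsg.IsProjReflectionGroupModThree (↥(Subgroup.closure (common D d₁ c₁)) ⧸
    Subgroup.center ↥(Subgroup.closure (common D d₁ c₁))) 7 (-c3) c3 at hR
  obtain ⟨g₁, hg₁⟩ := class_conj S.cls hd₁ ha
  obtain ⟨k, hk, hk'⟩ := centralizer_transitive S ha (S.conj_mem g₁ hc₁) hd
    (fun h => hdc (commute_of_conj (hg₁.symm ▸ h))) had
  have e1 : k * g₁ * d₁ * (k * g₁)⁻¹ = a := by
    rw [show k * g₁ * d₁ * (k * g₁)⁻¹ = k * (g₁ * d₁ * g₁⁻¹) * k⁻¹ by group, hg₁, hk.eq, mul_inv_cancel_right]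
  have e2 : k * g₁ * c₁ * (k * g₁)⁻¹ = d := by
    rw [show k * g₁ * c₁ * (k * g₁)⁻¹ = k * (g₁ * c₁ * g₁⁻¹) * k⁻¹ by group, hk']
  set L := Subgroup.closure (common D d₁ c₁) with hL
  have hdvd : Nat.card ↥L ∣ 4585351680 := by
    have := closure_common_dvd S hd₁ hc₁ hdc
    rwa [common_card S hd₁ hc₁ hdc] at this
  have hLle := Nat.le_of_dvd (by norm_num) hdvd
  obtain ⟨hqc, ⟨f⟩⟩ := refl_seven hc3 hR
    ((Nat.le_of_dvd Nat.card_pos (Subgroup.card_quotient_dvd_card _)).trans hLle)
  have hmul := Subgroup.card_eq_card_quotient_mul_card_subgroup (Subgroup.center ↥L)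
  rw [hqc] at hmul
  have hZ1 : 0 < Nat.card ↥(Subgroup.center ↥L) := Nat.card_pos
  have hZc : Nat.card ↥(Subgroup.center ↥L) = 1 := by omega
  have hZ : Subgroup.center ↥L = ⊥ := Subgroup.card_eq_one.1 hZc
  have eK : L.map (MulAut.conj (k * g₁)).toMonoidHom = Subgroup.closure (common D a d) := by
    rw [hL, closure_common_map S, e1, e2]
  let iso : ↥L ≃* ↥(Subgroup.closure (common D a d)) :=
    ((MulAut.conj (k * g₁)).subgroupMap L).trans (MulEquiv.subgroupCongr eK)
  refine ⟨Subgroup.eq_of_le_of_card_ge ((Subgroup.closure_le _).2 fun x hx =>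
    ⟨Subgroup.mem_centralizer_singleton_iff.2 hx.1.2.2.symm,
      Subgroup.mem_centralizer_singleton_iff.2 hx.2.2.2.symm⟩) ?_,
    ⟨((iso.symm.trans (QuotientGroup.quotientBot).symm).trans (QuotientGroup.quotientMulEquivOfEq hZ.symm)).trans f⟩⟩
  rw [pair_centralizer_ncard S ha hd had, ← Nat.card_congr iso.toEquiv, hmul, hZc, mul_one]

/-- The hypotheses for the normaliser of a line. -/
theorem lineCtx (S : Fi23Setup D) : Line.LineCtx D where
  set := S.cls.1
  conj g _ hd := S.conj_mem g hd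
  common_nonempty ha hd had := common_nonempty S ha hd had
  line_three hq ha hx hax hz H := line_three S hq ha hx hax hz H

/-- Seven common neighbours commute pairwise, and no more. -/
theorem width_common (S : Fi23Setup D) {a d : G} (ha : a ∈ D) (hd : d ∈ D) (had : ¬ Commute a d) :
    Cfsg.commutingWidth (common D a d) = 7 := by
  -- the picture in the local quotient at a common neighbour `q`
  have loc : ∀ q ∈ common D a d, a ∈ adj D q ∧ d ∈ adj D q ∧
      common (QSet D q) (qm D q a) (qm D q d) = qm D q '' (adj D q ∩ adj D a ∩ adj D d) ∧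
      Cfsg.commutingWidth (common (QSet D q) (qm D q a) (qm D q d)) = 6 := fun q hq => by
    have h1 := adj_symm ha hq.1
    have h2 := adj_symm hd hq.2
    exact ⟨h1, h2, qm_adj_inter S hq.1.1 h1 h2, FischerM22.width_common (S.localSetup hq.1.1)
      (qm_mem h1) (qm_mem h2) fun h => had ((qm_comm S hq.1.1 h1 h2).1 h)⟩
  have up : ∀ E ⊆ common D a d, (∀ x ∈ E, ∀ y ∈ E, Commute x y) → E.ncard ≤ 7 := by
    intro E hE hc
    rcases E.eq_empty_or_nonempty with rfl | ⟨q, hqE⟩
    · simp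
    obtain ⟨h1, h2, he, hw⟩ := loc q (hE hqE)
    have hq : q ∈ D := (hE hqE).1.1
    have hsub : E \ {q} ⊆ adj D q ∩ adj D a ∩ adj D d := fun y hy =>
      ⟨⟨⟨(hE hy.1).1.1, hy.2, hc q hqE y hy.1⟩, (hE hy.1).1⟩, (hE hy.1).2⟩
    have hadj : E \ {q} ⊆ adj D q := fun y hy => (hsub hy).1.1
    have h6 : (qm D q '' (E \ {q})).ncard ≤ 6 := by
      rw [← hw]
      refine le_csSup ⟨(Set.univ : Set (QL D q)).ncard, ?_⟩
        ⟨_, he ▸ Set.image_mono hsub, Set.toFinite _, ?_, rfl⟩
      · rintro n ⟨F, -, -, -, rfl⟩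
        exact Set.ncard_le_ncard (Set.subset_univ _) (Set.toFinite _)
      · rintro _ ⟨x, hx, rfl⟩ _ ⟨y, hy, rfl⟩
        exact (qm_comm S hq (hadj hx) (hadj hy)).2 (hc x hx.1 y hy.1)
    rw [qm_ncard S hq hadj] at h6
    have := Set.ncard_le_ncard (show E ⊆ insert q (E \ {q}) from fun y hy => by
      by_cases e : y = q
      · exact Or.inl e
      · exact Or.inr ⟨hy, e⟩) (Set.toFinite _)
    have := Set.ncard_insert_le q (E \ {q})
    omega
  have low : ∃ E : Set G, E ⊆ common D a d ∧ E.Finite ∧ (∀ x ∈ E, ∀ y ∈ E, Commute x y) ∧ E.ncard = 7 := by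
    obtain ⟨q, hq⟩ := common_nonempty S ha hd had
    obtain ⟨h1, h2, he, hw⟩ := loc q hq
    have hmem : ∃ F : Set (QL D q), F ⊆ common (QSet D q) (qm D q a) (qm D q d) ∧ F.Finite ∧
        (∀ x ∈ F, ∀ y ∈ F, Commute x y) ∧ F.ncard = 6 := by
      have := Nat.sSup_mem (s := {n | ∃ F : Set (QL D q), F ⊆ common (QSet D q) (qm D q a) (qm D q d) ∧
          F.Finite ∧ (∀ x ∈ F, ∀ y ∈ F, Commute x y) ∧ F.ncard = n})
        ⟨0, ∅, Set.empty_subset _, Set.finite_empty, by simp, Set.ncard_empty _⟩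
        ⟨(Set.univ : Set (QL D q)).ncard, by
          rintro n ⟨F, -, -, -, rfl⟩
          exact Set.ncard_le_ncard (Set.subset_univ _) (Set.toFinite _)⟩
      unfold Cfsg.commutingWidth at hw
      rwa [hw] at this
    obtain ⟨F, hF, -, hFc, hFn⟩ := hmem
    rw [he] at hF
    obtain ⟨E', hE', rfl⟩ := Set.subset_image_iff.1 hF
    have hadj : E' ⊆ adj D q := fun y hy => (hE' hy).1.1
    rw [qm_ncard S hq.1.1 hadj] at hFn
    refine ⟨insert q E', ?_, Set.toFinite _, ?_, ?_⟩
    · rintro _ (rfl | hy)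
      · exact hq
      · exact ⟨(hE' hy).1.2, (hE' hy).2⟩
    · rintro x (rfl | hx) y (rfl | hy)
      exacts [Commute.refl _, (hadj hy).2.2, (hadj hx).2.2.symm,
        (qm_comm S hq.1.1 (hadj hx) (hadj hy)).1 (hFc _ ⟨x, hx, rfl⟩ _ ⟨y, hy, rfl⟩)]
    · rw [Set.ncard_insert_of_notMem fun h => (hadj h).2.1 rfl, hFn]
  refine le_antisymm (csSup_le ⟨7, low⟩ ?_) (le_csSup ⟨7, ?_⟩ low)
  · rintro n ⟨E, hE, -, hc, rfl⟩
    exact up E hE hc
  · rintro n ⟨E, hE, -, hc, rfl⟩
    exact up E hE hc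

end Cfsg.Agent.FischerM23
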