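/-
The centraliser of two commuting members of a group of type M(23).

Main results (namespace `Cfsg.Agent.FischerM23`):
* `mem_pair_centralizer` : it is generated by the common neighbours and the two members;
* `pairModel` : its map onto PSU(6,2) has the centre `⟨a, b⟩` as kernel;
* `pair_commutator` : it is perfect.
-/
import Cfsg.Agent.Lib.FischerM23.Monodromy

set_option autoImplicit false

namespace Cfsg.Agent.FischerM23

open Cfsg.Agent.Unitary Cfsg.Agent.U62Cover Cfsg.Agent.ThreeTrans Cfsg.Agent.ThreeTransSU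
open scoped commutatorElement

variable {G : Type*} [Group G] [Finite G] {D : Set G}

theorem mem_pair_iff {a b g : G} :
    g ∈ Subgroup.centralizer ({a, b} : Set G) ↔ Commute g a ∧ Commute g b := by
  rw [Subgroup.mem_centralizer_iff]
  refine ⟨fun h => ⟨(h a (Or.inl rfl)).symm, (h b (Or.inr rfl)).symm⟩, fun h x hx => ?_⟩
  rcases hx with rfl | rfl
  exacts [h.1.eq.symm, h.2.eq.symm]

theorem mem_loc_of_pair (S : Fi23Setup D) {a b g : G} (ha : a ∈ D)
    (hg : g ∈ Subgroup.centralizer ({a, b} : Set G)) : g ∈ Loc D a := by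
  rw [← centralizer_eq_loc S ha]
  exact Subgroup.mem_centralizer_singleton_iff.2 (mem_pair_iff.1 hg).1

theorem common_le_pair {a b : G} :
    Subgroup.closure (adj D a ∩ adj D b) ≤ Subgroup.centralizer ({a, b} : Set G) := by
  rw [Subgroup.closure_le]
  exact fun y hy => mem_pair_iff.2 ⟨hy.1.2.2.symm, hy.2.2.2.symm⟩

/-- Two subgroups of commuting members: elements with the same image in the local quotient. -/
theorem mem_four (S : Fi23Setup D) {a b g : G} (ha : a ∈ D) (hb : b ∈ adj D a) (hg : g ∈ Loc D a)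
    (h : qm D a g = 1 ∨ qm D a g = qm D a b) : g = 1 ∨ g = a ∨ g = b ∨ g = a * b := by
  rcases h with h | h
  · rw [qm_of_mem hg] at h
    rcases mem_center_loc S ha ((QuotientGroup.eq_one_iff _).1 h) with h | h
    exacts [Or.inl h, Or.inr (Or.inl h)]
  · rw [qm_of_mem hg, qm_of_mem (mem_loc_of_adj hb)] at h
    rcases mem_center_loc S ha (QuotientGroup.eq.1 h) with h | h
    · exact Or.inr (Or.inr (Or.inl (inv_mul_eq_one.1 h)))
    · have h' : g⁻¹ * b = a := h
      refine Or.inr (Or.inr (Or.inr ?_))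
      have e : g = b * a⁻¹ := by rw [← h']; group
      rw [e, inv_eq S.cls.1 ha, hb.2.2.eq]

theorem four_mem {a b g : G} (h : g = 1 ∨ g = a ∨ g = b ∨ g = a * b) :
    g ∈ Subgroup.closure ({a, b} : Set G) := by
  have ha : a ∈ Subgroup.closure ({a, b} : Set G) := Subgroup.subset_closure (Or.inl rfl)
  have hb : b ∈ Subgroup.closure ({a, b} : Set G) := Subgroup.subset_closure (Or.inr rfl)
  rcases h with rfl | rfl | rfl | rfl
  exacts [one_mem _, ha, hb, mul_mem ha hb]

theorem pair_closure_le {a b : G} (hab : Commute a b) :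
    Subgroup.closure ({a, b} : Set G) ≤ Subgroup.centralizer ({a, b} : Set G) := by
  rw [Subgroup.closure_le]
  rintro x (rfl | rfl)
  exacts [mem_pair_iff.2 ⟨Commute.refl _, hab⟩, mem_pair_iff.2 ⟨hab.symm, Commute.refl _⟩]

/-- The centre of the centraliser of the pair. -/
theorem pair_center (S : Fi23Setup D) {a b : G} (ha : a ∈ D) (hb : b ∈ adj D a)
    (z : ↥(Subgroup.centralizer ({a, b} : Set G))) :
    z ∈ Subgroup.center ↥(Subgroup.centralizer ({a, b} : Set G)) ↔
      (z : G) ∈ Subgroup.closure ({a, b} : Set G) := by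
  constructor
  · intro hz
    have hl := mem_loc_of_pair S ha z.2
    refine four_mem (mem_four S ha hb hl
      (FischerM22.eq_one_or_self (S.localSetup ha) (qm_mem hb) ?_ fun w hw => ?_))
    · rw [qm_of_mem hl, qm_of_mem (mem_loc_of_adj hb)]
      exact Commute.map (show Commute (⟨(z : G), hl⟩ : ↥(Loc D a)) ⟨b, _⟩ from
        Subtype.ext (mem_pair_iff.1 z.2).2) _
    · rw [qm_adj S ha hb] at hw
      obtain ⟨y, hy, rfl⟩ := hw
      rw [qm_of_mem hl, qm_of_mem (mem_loc_of_adj hy.1)]
      refine Commute.map (show Commute (⟨(z : G), hl⟩ : ↥(Loc D a)) ⟨y, _⟩ from Subtype.ext ?_) _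
      show (z : G) * y = y * (z : G)
      exact congrArg Subtype.val (Subgroup.mem_center_iff.1 hz
        ⟨y, common_le_pair (Subgroup.subset_closure hy)⟩).symm
  · intro hz
    refine Subgroup.mem_center_iff.2 fun g => Subtype.ext ?_
    obtain ⟨c1, c2⟩ := mem_pair_iff.1 g.2
    have h : Commute (g : G) (z : G) := by
      have : (z : G) ∈ Subgroup.centralizer ({(g : G)} : Set G) := by
        refine (Subgroup.closure_le _).2 ?_ hz
        rintro x (rfl | rfl)
        exacts [Subgroup.mem_centralizer_singleton_iff.2 c1.symm, Subgroup.mem_centralizer_singleton_iff.2 c2.symm]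
      exact (Subgroup.mem_centralizer_singleton_iff.1 this).symm
    exact h

/-- The map of the centraliser of the pair onto PSU(6,2). -/
theorem pairModel (S : Fi23Setup D) {a b : G} (ha : a ∈ D) (hb : b ∈ adj D a) :
    ∃ (F : Type) (_ : Field F) (_ : Fintype F), Fintype.card F = 4 ∧
      ∃ ψ : ↥(Subgroup.centralizer ({a, b} : Set G)) →* Cfsg.PSU 6 F 2,
        Function.Surjective ψ ∧ ψ.ker = Subgroup.center ↥(Subgroup.centralizer ({a, b} : Set G)) := by
  have hS := S.localSetup ha
  obtain ⟨F, fF, tF, pt, θ, L⟩ := FischerM22.exists_locModel hS (qm_mem hb)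
  set K := Subgroup.centralizer ({a, b} : Set G) with hK
  have hin : ∀ k : K, qm D a (k : G) ∈ Loc (QSet D a) (qm D a b) := fun k => by
    rw [← FischerM22.centralizer_eq_loc hS (qm_mem hb), Subgroup.mem_centralizer_singleton_iff,
      qm_of_mem (mem_loc_of_pair S ha k.2), qm_of_mem (mem_loc_of_adj hb)]
    exact Commute.map (show Commute (⟨(k : G), mem_loc_of_pair S ha k.2⟩ : ↥(Loc D a)) ⟨b, _⟩ from
      Subtype.ext (mem_pair_iff.1 k.2).2) _
  let φ : K →* ↥(Loc (QSet D a) (qm D a b)) :=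
    { toFun := fun k => ⟨qm D a (k : G), hin k⟩
      map_one' := Subtype.ext (by
        show qm D a (1 : G) = 1
        rw [qm_of_mem (one_mem _)]; exact map_one _)
      map_mul' := fun x y => Subtype.ext (qm_mul (mem_loc_of_pair S ha x.2) (mem_loc_of_pair S ha y.2)) }
  have hφ : Function.Surjective φ := by
    rintro ⟨q, hq⟩
    obtain ⟨t, ht, rfl⟩ := exists_lift_centralizer S ha hb (commute_of_mem_Loc hq)
    exact ⟨⟨t, common_le_pair ht⟩, rfl⟩
  have hpsi : Function.Surjective (θ.comp φ) := L.surj.comp hφ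
  refine ⟨F, fF, tF, L.M.card, θ.comp φ, hpsi, le_antisymm (fun k hk => ?_) fun k hk => ?_⟩
  · rw [pair_center S ha hb]
    exact four_mem (mem_four S ha hb (mem_loc_of_pair S ha k.2)
      ((FischerM22.mem_center_loc_iff hS (qm_mem hb) _).1 (L.ker _ hk)))
  · rw [MonoidHom.mem_ker, ← Subgroup.mem_bot, ← FischerM22.center_psu_eq_bot L.M.card]
    refine Subgroup.mem_center_iff.2 fun q => ?_
    obtain ⟨y, rfl⟩ := hpsi q
    rw [← map_mul, ← map_mul, Subgroup.mem_center_iff.1 hk y]

/-- Both members are products in the commutator subgroup of the centraliser of the pair. -/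
theorem pair_members_mem_commutator (S : Fi23Setup D) {a b : G} (ha : a ∈ D) (hb : b ∈ adj D a) :
    ∀ g : ↥(Subgroup.centralizer ({a, b} : Set G)), (g : G) = a ∨ (g : G) = b →
      g ∈ commutator ↥(Subgroup.centralizer ({a, b} : Set G)) := by
  have hS := S.localSetup ha
  have hs := S.cls.1
  obtain ⟨F, _, _, pt, M⟩ := hS.exists_model (qm_mem hb)
  have hF := M.card
  obtain ⟨ω, -, hω⟩ := exists_omega hF
  have hω0 : ω ≠ 0 := fun e => by
    rw [e] at hω; exact one_ne_zero (show (1 : F) = 0 by linear_combination -hω)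
  have hω1 : ω ≠ 1 := fun e => by
    rw [e] at hω; exact one_ne_zero (show (1 : F) = 0 by linear_combination -hω)
  have hω2 : ω ^ 2 ≠ 1 := fun e => hω0 (by linear_combination e - hω)
  have hω3 : ω ^ 2 ≠ ω := fun e => one_ne_zero (show (1 : F) = 0 by linear_combination e - hω)
  obtain ⟨u, v, w, hu, hv, hw, horth, hli⟩ := FischerM22.exists_plane hF
  -- lifts of the points
  have hlift : ∀ x : Fin 6 → F, Iso x → ∃ y ∈ adj D a ∩ adj D b, qm D a y = pt x := fun x hx => by
    have h := M.mem x hx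
    rw [qm_adj S ha hb] at h
    exact h
  choose f hfm hfq using hlift
  have hfD : ∀ x hx, f x hx ∈ D := fun x hx => (hfm x hx).1.1
  have hfc : ∀ x y hx hy, hf x y = 0 → Commute (f x hx) (f y hy) := fun x y hx hy h => by
    rw [← qm_comm S ha (hfm x hx).1 (hfm y hy).1, hfq, hfq]
    exact (M.comm x y hx hy).2 h
  have ne_of : ∀ {p q : Fin 6 → F} (hp : Iso p) (hq : Iso q), ∀ α β γ α' β' γ' : F,
      p = α • u + β • v + γ • w → q = α' • u + β' • v + γ' • w →
      (α * β' ≠ α' * β ∨ α * γ' ≠ α' * γ ∨ β * γ' ≠ β' * γ) → f p hp ≠ f q hq := by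
    intro p q hp hq α β γ α' β' γ' ep eq hne e
    obtain ⟨c, -, e1⟩ := M.inj p q hp hq (by rw [← hfq p hp, ← hfq q hq, e])
    rw [ep, eq, smul_add, smul_add, smul_smul, smul_smul, smul_smul] at e1
    obtain ⟨q1, q2, q3⟩ := hli (α' - c * α) (β' - c * β) (γ' - c * γ) (by
      rw [sub_smul, sub_smul, sub_smul,
        show α' • u - (c * α) • u + (β' • v - (c * β) • v) + (γ' • w - (c * γ) • w)
          = α' • u + β' • v + γ' • w - ((c * α) • u + (c * β) • v + (c * γ) • w) by abel,
        e1, sub_self])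
    rcases hne with h | h | h
    · exact h (by linear_combination α * q2 - β * q1)
    · exact h (by linear_combination α * q3 - γ * q1)
    · exact h (by linear_combination β * q3 - γ * q2)
  -- the points of the hyperovals
  let x1 : F → (Fin 6 → F) := fun t => u + v + t • w
  let x2 : F → (Fin 6 → F) := fun t => u + ω • v + (ω ^ 2 * t) • w
  let x3 : F → (Fin 6 → F) := fun t => u + ω ^ 2 • v + (ω * t) • w
  have c1 : ∀ t, x1 t = (1 : F) • u + (1 : F) • v + t • w := fun t => by simp [x1]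
  have c2 : ∀ t, x2 t = (1 : F) • u + ω • v + (ω ^ 2 * t) • w := fun t => by simp [x2]
  have c3 : ∀ t, x3 t = (1 : F) • u + ω ^ 2 • v + (ω * t) • w := fun t => by simp [x3]
  have eu : u = (1 : F) • u + (0 : F) • v + (0 : F) • w := by simp
  have ev : v = (0 : F) • u + (1 : F) • v + (0 : F) • w := by simp
  have ew : w = (0 : F) • u + (0 : F) • v + (1 : F) • w := by simp
  have hiso : ∀ t, ∀ p ∈ FischerM22.ovalPts ω t u v w, Iso p := by
    intro t p hp
    refine ⟨fun h0 => ?_, ?_⟩
    · simp only [FischerM22.ovalPts, List.mem_cons, List.not_mem_nil, or_false] at hp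
      rcases hp with rfl | rfl | rfl | rfl | rfl | rfl
      · exact hu.1 h0
      · exact hv.1 h0
      · exact hw.1 h0
      all_goals
        exact one_ne_zero (hli 1 _ _ (by rw [one_smul]; first | exact h0 | (rw [one_smul]; exact h0))).1
    · obtain ⟨_, _, _, rfl⟩ := FischerM22.ovalPts_comb ω t u v w p hp
      exact FischerM22.comb_orth hF horth _ _ _ _ _ _
  have i1 : ∀ t, Iso (x1 t) := fun t => hiso t _ (by simp [FischerM22.ovalPts, x1])
  have i2 : ∀ t, Iso (x2 t) := fun t => hiso t _ (by simp [FischerM22.ovalPts, x2])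
  have i3 : ∀ t, Iso (x3 t) := fun t => hiso t _ (by simp [FischerM22.ovalPts, x3])
  set A := f u hu with hA
  set B := f v hv with hB
  set C := f w hw with hC
  set X1 := fun t => f (x1 t) (i1 t) with hX1
  set X2 := fun t => f (x2 t) (i2 t) with hX2
  set X3 := fun t => f (x3 t) (i3 t) with hX3
  set P := fun t => A * B * C * (X1 t * X2 t * X3 t) with hP
  have cuv : Commute A B := hfc u v hu hv (horth u (by simp) v (by simp))
  have cuw : Commute A C := hfc u w hu hw (horth u (by simp) w (by simp))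
  have cvw : Commute B C := hfc v w hv hw (horth v (by simp) w (by simp))
  have c12 : ∀ t, Commute (X1 t) (X2 t) := fun t => hfc _ _ (i1 t) (i2 t) (by
    rw [c1, c2]; exact FischerM22.comb_orth hF horth _ _ _ _ _ _)
  have c13 : ∀ t, Commute (X1 t) (X3 t) := fun t => hfc _ _ (i1 t) (i3 t) (by
    rw [c1, c3]; exact FischerM22.comb_orth hF horth _ _ _ _ _ _)
  have c23 : ∀ t, Commute (X2 t) (X3 t) := fun t => hfc _ _ (i2 t) (i3 t) (by
    rw [c2, c3]; exact FischerM22.comb_orth hF horth _ _ _ _ _ _)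
  have nuv : A ≠ B := ne_of hu hv _ _ _ _ _ _ eu ev (Or.inl (by simp))
  have nuw : A ≠ C := ne_of hu hw _ _ _ _ _ _ eu ew (Or.inr (Or.inl (by simp)))
  have nvw : B ≠ C := ne_of hv hw _ _ _ _ _ _ ev ew (Or.inr (Or.inr (by simp)))
  have n12 : ∀ t s, X1 t ≠ X2 s := fun t s =>
    ne_of (i1 t) (i2 s) _ _ _ _ _ _ (c1 t) (c2 s) (Or.inl (by simpa using hω1))
  have n13 : ∀ t s, X1 t ≠ X3 s := fun t s =>
    ne_of (i1 t) (i3 s) _ _ _ _ _ _ (c1 t) (c3 s) (Or.inl (by simpa using hω2))
  have n23 : ∀ t, X2 t ≠ X3 t := fun t =>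
    ne_of (i2 t) (i3 t) _ _ _ _ _ _ (c2 t) (c3 t) (Or.inl (by simpa using hω3))
  have n11 : ∀ t s, t ≠ s → X1 t ≠ X1 s := fun t s h =>
    ne_of (i1 t) (i1 s) _ _ _ _ _ _ (c1 t) (c1 s) (Or.inr (Or.inl (by simpa using fun e => h e.symm)))
  have nA : ∀ t, A ≠ X1 t ∧ A ≠ X2 t ∧ A ≠ X3 t := fun t =>
    ⟨ne_of hu (i1 t) _ _ _ _ _ _ eu (c1 t) (Or.inl (by simp)),
      ne_of hu (i2 t) _ _ _ _ _ _ eu (c2 t) (Or.inl (by simpa using hω0)),
      ne_of hu (i3 t) _ _ _ _ _ _ eu (c3 t) (Or.inl (by simpa using pow_ne_zero 2 hω0))⟩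
  have hsep := adjSeparated S
  have hP1 : ∀ t, P t ≠ 1 := fun t h => by
    have e1 : A * B * C = X1 t * X2 t * X3 t := by
      have h2 : A * B * C = (X1 t * X2 t * X3 t)⁻¹ := eq_inv_of_mul_eq_one_left h
      rw [h2, mul_inv_rev, mul_inv_rev, inv_eq hs (hfD _ _), inv_eq hs (hfD _ _), inv_eq hs (hfD _ _)]
      calc X3 t * (X2 t * X1 t) = X3 t * (X1 t * X2 t) := by rw [(c12 t).eq]
        _ = X1 t * X2 t * X3 t := ((c13 t).symm.mul_right (c23 t).symm).eq
    rcases triple_mem S.cls S.cores.1 hsep (hfD _ _) (hfD _ _) (hfD _ _) (hfD _ _) (hfD _ _) (hfD _ _)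
      nuv nuw nvw (n12 t t) (n13 t t) (n23 t) cuv cuw cvw (c12 t) (c13 t) (c23 t) e1 with e | e | e
    exacts [(nA t).1 e, (nA t).2.1 e, (nA t).2.2 e]
  have hPne : ∀ t s, t ≠ s → P t ≠ P s := fun t s hts h => by
    rcases triple_mem S.cls S.cores.1 hsep (hfD _ _) (hfD _ _) (hfD _ _) (hfD _ _) (hfD _ _) (hfD _ _)
      (n12 t t) (n13 t t) (n23 t) (n12 s s) (n13 s s) (n23 s) (c12 t) (c13 t) (c23 t) (c12 s) (c13 s)
      (c23 s) (mul_left_cancel h) with e | e | e
    exacts [n11 t s hts e, n12 t s e, n13 t s e]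
  have hmem : ∀ t, t ≠ 0 → P t = 1 ∨ P t = a ∨ P t = b ∨ P t = a * b := by
    intro t ht
    have l := fun x hx => mem_loc_of_adj (hfm x hx).1
    have l3 := mul_mem (mul_mem (l u hu) (l v hv)) (l w hw)
    have l6 := mul_mem (mul_mem (l _ (i1 t)) (l _ (i2 t))) (l _ (i3 t))
    refine mem_four S ha hb (mul_mem l3 l6) ?_
    have e : qm D a (P t) = ((FischerM22.ovalPts ω t u v w).map pt).prod := by
      rw [hP]
      simp only [hA, hB, hC, hX1, hX2, hX3]
      rw [qm_mul l3 l6, qm_mul (mul_mem (l u hu) (l v hv)) (l w hw), qm_mul (l u hu) (l v hv),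
        qm_mul (mul_mem (l _ (i1 t)) (l _ (i2 t))) (l _ (i3 t)), qm_mul (l _ (i1 t)) (l _ (i2 t))]
      simp only [hfq, FischerM22.ovalPts, List.map_cons, List.map_nil, List.prod_cons, List.prod_nil,
        mul_one, mul_assoc, x1, x2, x3]
    rw [e]
    exact FischerM22.eq_one_or_self hS (qm_mem hb)
      (Commute.list_prod_left _ _ fun y hy => by
        obtain ⟨p, hp, rfl⟩ := List.mem_map.1 hy
        exact (M.mem p (hiso t p hp)).2.2.symm)
      fun y hy => (M.rel _ (hiso t) (FischerM22.tv_hyperoval hF hω ht horth) y hy).symm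
  -- all of them die in the abelianisation
  set K := Subgroup.centralizer ({a, b} : Set G) with hK
  let up : ∀ x (hx : Iso x), K := fun x hx => ⟨f x hx, common_le_pair (Subgroup.subset_closure (hfm x hx))⟩
  have hconst : ∀ x y hx hy, Abelianization.of (up x hx) = Abelianization.of (up y hy) := by
    intro x y hx hy
    obtain ⟨r, hr, hrb, hre⟩ := exists_transport S ha (hfm x hx).1 (hfm y hy).1 hb
      (hfm x hx).2.2.2.symm (hfm y hy).2.2.2.symm (hfm x hx).2.2.1 (hfm y hy).2.2.1
    let R : K := ⟨r, mem_pair_iff.2 ⟨commute_of_mem_Loc hr, hrb⟩⟩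
    rw [show up y hy = R * up x hx * R⁻¹ from Subtype.ext hre.symm, map_mul, map_mul, map_inv,
      mul_right_comm, mul_inv_cancel, one_mul]
  have hsq : Abelianization.of (up u hu) * Abelianization.of (up u hu) = 1 := by
    rw [← map_mul, show up u hu * up u hu = 1 from Subtype.ext (mul_self hs (hfD _ _)), map_one]
  intro g hg
  obtain ⟨t, ht, hgt⟩ : ∃ t, t ≠ 0 ∧ (g : G) = P t := by
    by_contra hno
    rw [not_exists] at hno
    have h3 : ∀ t, t ≠ 0 → P t = a ∨ P t = b ∨ P t = a * b := fun t ht =>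
      (hmem t ht).resolve_left (hP1 t)
    have hn : ∀ t, t ≠ 0 → P t ≠ (g : G) := fun t ht e => hno t ⟨ht, e.symm⟩
    have k1 := hn 1 one_ne_zero
    have k2 := hn ω hω0
    have k3 := hn (ω ^ 2) (pow_ne_zero 2 hω0)
    have d12 := hPne 1 ω hω1.symm
    have d13 := hPne 1 (ω ^ 2) hω2.symm
    have d23 := hPne ω (ω ^ 2) hω3.symm
    rcases h3 1 one_ne_zero with h | h | h <;> rcases h3 ω hω0 with h' | h' | h' <;>
      rcases h3 (ω ^ 2) (pow_ne_zero 2 hω0) with h'' | h'' | h'' <;>
        first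
          | exact d12 (h.trans h'.symm) | exact d13 (h.trans h''.symm) | exact d23 (h'.trans h''.symm)
          | (rcases hg with e | e <;>
              first
                | exact k1 (h.trans e.symm) | exact k2 (h'.trans e.symm) | exact k3 (h''.trans e.symm))
  have e : g = up u hu * up v hv * up w hw * (up _ (i1 t) * up _ (i2 t) * up _ (i3 t)) := Subtype.ext hgt
  rw [← Abelianization.ker_of, MonoidHom.mem_ker, e]
  simp only [map_mul, hconst v u hv hu, hconst w u hw hu, hconst _ u (i1 t) hu, hconst _ u (i2 t) hu,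
    hconst _ u (i3 t) hu, mul_assoc, hsq, mul_one]

/-- The centraliser of the pair is perfect. -/
theorem pair_commutator (S : Fi23Setup D) {a b : G} (ha : a ∈ D) (hb : b ∈ adj D a) :
    commutator ↥(Subgroup.centralizer ({a, b} : Set G)) = ⊤ := by
  obtain ⟨F, _, _, hF, ψ, hψ, hker⟩ := pairModel S ha hb
  let K := Subgroup.centralizer ({a, b} : Set G)
  have hps : commutator (Cfsg.PSU 6 F 2) = ⊤ := by
    have : IsSimpleGroup (Cfsg.PSU 6 F 2) :=
      S0283.result (q := 2) (by rw [hF]; norm_num) 6 (by norm_num) (by norm_num)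
    refine ((inferInstance : (commutator (Cfsg.PSU 6 F 2)).Normal).eq_bot_or_eq_top).resolve_left fun h => ?_
    refine absurd (FischerM22.center_psu_eq_bot hF) ?_
    rw [(commutator_eq_bot_iff_center_eq_top _).1 h]
    exact top_ne_bot
  have hmap : (commutator K).map ψ = ⊤ := by
    rw [commutator_def, Subgroup.map_commutator, Subgroup.map_top_of_surjective _ hψ, ← commutator_def, hps]
  rw [eq_top_iff]
  intro k _
  obtain ⟨c, hc, hck⟩ : ψ k ∈ (commutator K).map ψ := hmap ▸ Subgroup.mem_top _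
  have hz : c⁻¹ * k ∈ ψ.ker := by rw [MonoidHom.mem_ker, map_mul, map_inv, hck, inv_mul_cancel]
  rw [hker, pair_center S ha hb] at hz
  rw [← mul_inv_cancel_left c k]
  refine mul_mem hc ?_
  have hle : Subgroup.closure ({a, b} : Set G) ≤ (commutator K).map K.subtype := by
    rw [Subgroup.closure_le]
    intro x hx
    exact ⟨⟨x, pair_closure_le hb.2.2 (Subgroup.subset_closure hx)⟩,
      pair_members_mem_commutator S ha hb _ hx, rfl⟩
  obtain ⟨y, hy, e⟩ := hle hz
  have e' : y = c⁻¹ * k := Subtype.ext e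
  exact e' ▸ hy

end Cfsg.Agent.FischerM23
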